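import Cfsg.Agent.Mrg.Omega.IId.SymWrD.SylN.One
import Cfsg.Agent.Mrg.Omega.IId.SymWrD.Ht.Fr

section


/-!
# II.d, `SwCv`, T-T, `D` arbitrary: LEMMA 1_D, LEMMA 2_D for the frame `SymWrD.Ht.Fr`
-/

set_option autoImplicit false

namespace Cfsg.Agent.Omega.IId.SymWrD

open Subgroup Cfsg Cfsg.Agent.Omega.FFThm

universe u

variable {G : Type u} [Group G] {P V D : Subgroup G} {k m : ℕ}

/-- `SD` from 916's frame -/
theorem SD.of_fr [Finite G] {S : Sylow 2 G} {M : SymK (S : Subgroup G) P V ⊥ k m} (h : Ht.Fr S P V D M) :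
    SD S P V M where
  toSit := h.toSit
  c2 := h.char2
  QP _ _ hpq hne := h.Qle hpq hne
  Qpp _ _ hpq hne _ hx := h.Qpp hpq hne hx
  VQ _ _ hpq hne := h.V_le hpq hne
  par _ _ hpq hne := by
    obtain ⟨w, hw, -, hwp⟩ := h.exists_w hpq hne
    exact ⟨w, hw, hwp⟩

end Cfsg.Agent.Omega.IId.SymWrD

end

section


/-!
# II.d, `SwCv`, T-T: tools for `O₂(C_G(σ_i d)) ≤ S0`, `m = 2` (bb OMEGA #22419)

* `swap_zz` : the action on `Ω₁Z(O₂(P))` of an element inducing a transposition;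
* `coreDuad` : `w` normalising `S0` and acting trivially on it outside `J` centralises the duads `{c, μ c}`, `c ∉ J`;
* `SD.c2` : `y ∈ Q ∩ O₂(C_G(r))`, `[y, Q] = ⟨a⟩`, `r ∈ Ω₁Z(Q_p)` ⟹ `K_p` centralises `a`;
* `SD.DD_zc` : `DD M ≤ Ω₁Z(Q_p)`.
-/

set_option autoImplicit false
set_option linter.unusedSectionVars false

namespace Cfsg.Agent.Omega.IId.SymWrD.AlphaA

open Subgroup Pointwise Cfsg Cfsg.Agent.Omega.MinPar Cfsg.Agent.Omega.FFThm
open Cfsg.Agent.ZN (o2 zc)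
open Cfsg.Agent.Omega.IId.SwB (S0 mem_S0 S0_le S0_fst S0_comm Q_le_S0 syl_S0 exists_in)
open Cfsg.Agent.Omega.IId.SymWrD.Ht (DD mem_DD)
open Cfsg.Agent.Omega.Half.SymA (Pt E Mv pm Amb0)
open Cfsg.Agent.MinSimple.VModule (mem_zc zc_le le_normalizer_o2 o2_isPGroup o2_le)
open Triangle (KK KK_conj KK_le_o2 mem_cent mem_KK mem_zpowers_iff_of_sq cent_conj o2_cent_conj)
open Big (cz qz conj_mem norm_of conj_of_comm comm_of_conj le_o2_of)

universe u

variable {G : Type u} [Group G] {P V : Subgroup G} {k m : ℕ} {S : Sylow 2 G} {M : SymK (S : Subgroup G) P V ⊥ k m}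

section sit

variable (h : Sit S P V M)
include h

/-- an element of `S0` acting as `(c μ(c))` -/
theorem exists_tau [Finite G] {μ ν : Equiv.Perm (Pt k m)} (F : Fours M μ ν) (c : Pt k m) :
    ∃ s ∈ S0 h, pp M s = Equiv.swap c (μ c) := by
  have hmem : Equiv.swap c (μ c) ∈ F.FA := by
    intro y
    by_cases h1 : y = c
    · rw [h1, Equiv.swap_apply_left]; exact Or.inr rfl
    by_cases h2 : y = μ c
    · rw [h2, Equiv.swap_apply_right, F.msq]; exact Or.inr rfl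
    · rw [Equiv.swap_apply_of_ne_of_ne h1 h2]; exact Or.inl rfl
  obtain ⟨s, hs, e⟩ := Fours.exists_A h F hmem
  refine ⟨s, (mem_S0 h).2 ⟨hs.1, fun r => ?_⟩, e⟩
  rw [e]
  by_cases h1 : r = c
  · rw [h1, Equiv.swap_apply_left, F.mfst]
  by_cases h2 : r = μ c
  · rw [h2, Equiv.swap_apply_right, F.mfst]
  · rw [Equiv.swap_apply_of_ne_of_ne h1 h2]

theorem mem_zc_of {z : G} (hz : z * z = 1) (hQ : ∀ y ∈ o2 P, y * z = z * y) : z ∈ zc (o2 P) :=
  mem_zc.2 ⟨h.cQ (mem_centralizer_iff.2 hQ), hQ, by rw [pow_two]; exact hz⟩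

/-- the action of an element inducing `(p q)` on `V` -/
theorem conj_swap {g : G} (hgP : g ∈ P) {p q : Pt k m} (hpq : p.1 = q.1) (hg : pp M g = Equiv.swap p q) {v : G}
    (hv : v ∈ V) (hE : E M v p ≠ E M v q) : g * v * g⁻¹ = v * pr M p q := by
  refine Half.SymA.inj M (h.amb.conj_mem hgP hv) (mul_mem hv (pr_mem M _ _)) fun r => ?_
  have hne : p ≠ q := fun e => hE (by rw [e])
  rw [E_conj' hgP hv, Half.SymA.E_mul M hv (pr_mem M _ _), E_pr M hpq, hg, Equiv.swap_inv]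
  have key : ∀ x y : ZMod 2, x ≠ y → y = x + 1 := by decide
  by_cases e1 : r = p
  · rw [e1, Equiv.swap_apply_left, if_pos rfl, if_neg hne, add_zero]
    exact key _ _ hE
  by_cases e2 : r = q
  · rw [e2, Equiv.swap_apply_right, if_pos rfl, if_neg hne.symm, zero_add]
    exact key _ _ hE.symm
  · rw [Equiv.swap_apply_of_ne_of_ne e1 e2, if_neg e1, if_neg e2, add_zero, add_zero]

theorem comm_swap {g : G} (hgP : g ∈ P) {p q : Pt k m} (hg : pp M g = Equiv.swap p q) {v : G}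
    (hv : v ∈ V) (hE : E M v p = E M v q) : g * v = v * g := by
  rw [h.comm_iff hgP hv]
  intro r
  rw [hg]
  by_cases e1 : r = p
  · rw [e1, Equiv.swap_apply_left, hE]
  by_cases e2 : r = q
  · rw [e2, Equiv.swap_apply_right, hE]
  · rw [Equiv.swap_apply_of_ne_of_ne e1 e2]

theorem swap_fst' {p q : Pt k m} (hpq : p.1 = q.1) (r : Pt k m) : (Equiv.swap p q r).1 = r.1 := by
  by_cases h1 : r = p
  · rw [h1, Equiv.swap_apply_left, hpq]
  by_cases h2 : r = q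
  · rw [h2, Equiv.swap_apply_right, hpq]
  · rw [Equiv.swap_apply_of_ne_of_ne h1 h2]

/-- the action on `ZZ` of an element inducing `(p q)` -/
theorem swap_zz (zv : zc (o2 P) ≤ V ⊔ DD M) {g : G} (hgP : g ∈ P) {p q : Pt k m} (hpq : p.1 = q.1)
    (hg : pp M g = Equiv.swap p q) {z : G} (hz : z ∈ zc (o2 P)) : g * z * g⁻¹ = z ∨ g * z * g⁻¹ = z * pr M p q := by
  obtain ⟨v, hv, d, hd, rfl⟩ := Ht.RD.zz_dec' h (zv hz)
  have hgd : g * d * g⁻¹ = d := by
    rw [(mem_DD.1 hd).2 g hgP fun r => ?_, mul_inv_cancel_right]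
    rw [hg]; exact swap_fst' h hpq r
  have e : g * (v * d) * g⁻¹ = g * v * g⁻¹ * d := by
    calc g * (v * d) * g⁻¹ = g * v * g⁻¹ * (g * d * g⁻¹) := by group
      _ = g * v * g⁻¹ * d := by rw [hgd]
  rw [e]
  by_cases hE : E M v p = E M v q
  · left
    rw [comm_swap h hgP hg hv hE, mul_inv_cancel_right]
  · right
    rw [conj_swap h hgP hpq hg hv hE, mul_assoc, mul_assoc,
      Sit.zz_comm (h.VZ (pr_mem M p q)) (mem_DD.1 hd).1]

/-- the centraliser of the duads -/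
theorem coreDuad [Finite G] (zv : zc (o2 P) ≤ V ⊔ DD M) {μ ν : Equiv.Perm (Pt k m)} (F : Fours M μ ν)
    {J : Set (Fin k)} {w : G}
    (hw2 : ∀ s ∈ S0 h, w⁻¹ * s * w ∈ S0 h ∧ ∀ p : Pt k m, p.1 ∉ J → pp M (w⁻¹ * s * w) p = pp M s p) {c : Pt k m}
    (hc : c.2 ≠ 0) (hcJ : c.1 ∉ J) : w * pr M c (μ c) = pr M c (μ c) * w := by
  have hμ := F.mfst c
  have hμne := F.mne c hc
  have hμ0 : (μ c).2 ≠ 0 := fun e => hc (F.mnz.1 e)
  obtain ⟨τ, hτ, hτp⟩ := exists_tau h F c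
  have hτP := h.SP (S0_le h hτ)
  obtain ⟨v, hv⟩ : ∃ v, v = pr M (c.1, 0) c := ⟨_, rfl⟩
  have hvV : v ∈ V := by rw [hv]; exact pr_mem M _ _
  have hc0 : ((c.1, 0) : Pt k m) ≠ c := fun e => hc (by rw [← e])
  have hc0' : ((c.1, 0) : Pt k m) ≠ μ c := fun e => hμ0 (by rw [← e])
  have hpc : ((c.1, 0) : Pt k m).1 = c.1 := rfl
  have hE : E M v c ≠ E M v (μ c) := by
    rw [hv, E_pr_right M hpc hc0, E_pr_of_ne M hpc hc0'.symm hμne]
    exact one_ne_zero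
  have hvJ : ∀ p : Pt k m, p.1 ∈ J → E M v p = 0 := by
    intro p hp
    rw [hv]
    refine E_pr_of_ne M hpc (fun e => hcJ ?_) fun e => hcJ ?_
    · rw [e] at hp; exact hp
    · rw [e] at hp; exact hp
  have hτv := conj_swap h hτP hμ.symm hτp hvV hE
  obtain ⟨z, hz⟩ : ∃ z, z = w * v * w⁻¹ := ⟨_, rfl⟩
  have hzQ : ∀ g ∈ o2 P, g * z = z * g := fun g hg => by
    rw [hz]
    exact Ht.RD.coreK h hw2 hvV hvJ (Q_le_S0 h hg) fun p _ => by rw [(h.mem_Q_iff (h.QS hg)).1 hg]; rfl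
  have hzz : z ∈ zc (o2 P) := mem_zc_of h (by
    rw [hz]
    calc w * v * w⁻¹ * (w * v * w⁻¹) = w * (v * v) * w⁻¹ := by group
      _ = 1 := by rw [h.Vsq hvV]; group) hzQ
  obtain ⟨t1, t2⟩ := hw2 τ hτ
  obtain ⟨t, ht⟩ : ∃ t, t = w⁻¹ * τ * w := ⟨_, rfl⟩
  rw [← ht] at t1 t2
  have htP := h.SP (S0_le h t1)
  -- `τ⁻¹ t` commutes with `v`
  have h1 : τ⁻¹ * t * v = v * (τ⁻¹ * t) := by
    rw [h.comm_iff (mul_mem (inv_mem hτP) htP) hvV]
    intro p
    rw [h.mul (inv_mem hτP) htP, h.inv hτP, Equiv.Perm.mul_apply]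
    by_cases hp : p.1 ∈ J
    · rw [hvJ p hp, hvJ]
      have h2 : ((pp M τ)⁻¹ (pp M t p)).1 = (pp M t p).1 := by
        rw [hτp, Equiv.swap_inv]
        exact swap_fst' h hμ.symm _
      rw [h2, S0_fst h t1]
      exact hp
    · rw [t2 p hp, show (pp M τ)⁻¹ (pp M τ p) = p from (pp M τ).symm_apply_apply p]
  have h2 : t * v * t⁻¹ = v * pr M c (μ c) := by
    rw [← hτv]
    calc t * v * t⁻¹ = τ * (τ⁻¹ * t * v) * t⁻¹ := by group
      _ = τ * v * τ⁻¹ := by rw [h1]; group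
  have h3 : τ * z * τ⁻¹ = z * (w * pr M c (μ c) * w⁻¹) := by
    calc τ * z * τ⁻¹ = w * (t * v * t⁻¹) * w⁻¹ := by rw [hz, ht]; group
      _ = z * (w * pr M c (μ c) * w⁻¹) := by rw [h2, hz]; group
  have h4 : w * pr M c (μ c) * w⁻¹ ≠ 1 := by
    intro e
    have h5 : pr M c (μ c) = 1 := by
      calc pr M c (μ c) = w⁻¹ * (w * pr M c (μ c) * w⁻¹) * w := by group
        _ = 1 := by rw [e]; group
    have h6 := E_pr_left M hμ.symm hμne.symm
    rw [h5, Half.SymA.E_one M] at h6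
    exact zero_ne_one h6
  apply comm_of_conj
  rcases swap_zz h zv hτP hμ.symm hτp hzz with h5 | h5
  · rw [h5] at h3
    exact absurd (mul_eq_left.1 h3.symm) h4
  · rw [h5] at h3
    exact (mul_left_cancel h3).symm

end sit

section sd

variable [Finite G] (h : SD S P V M)
include h

/-- **(C2)** (290's form of LEMMA 1): `y ∈ Q ∩ O₂(C_G(r))`, `r ∈ Ω₁Z(Q_p)`, `[y, Q] = ⟨a⟩` ⟹ `K_p` centralises `a`. -/
theorem c2 {p q : Pt k m} (hpq : p.1 = q.1) (hne : p ≠ q) {r y a : G} (hr : r ∈ zc (qz (pr M p q)))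
    (hyr : y ∈ qz r) (hyQ : y ∈ o2 P) (haa : a * a = 1)
    (hQ : ∀ x ∈ o2 P, x * y * x⁻¹ = y ∨ x * y * x⁻¹ = a * y) (hex : ∃ x ∈ o2 P, x * y * x⁻¹ = a * y) :
    ∀ w ∈ KK (pr M p q), pp M w = Equiv.swap p q → w * a = a * w := by
  intro w hw hwp
  by_contra hna
  have hwq := h.KK_le hpq hne hw
  have hwP := h.QP p q hpq hne hwq
  have hyp : y * pr M p q = pr M p q * y := h.QcV hyQ (pr_mem M p q)
  have hpz : pr M p q ∈ zc (qz (pr M p q)) :=
    h.perp hpq hne (pr_mem M p q) (by rw [E_pr_left M hpq hne, E_pr_right M hpq hne])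
  obtain ⟨x₀, hx₀, hx₀y⟩ := hex
  have ha1 : a ≠ 1 := fun e => hna (by rw [e]; group)
  have hai : a⁻¹ = a := inv_eq_of_mul_eq_one_left haa
  -- `[y, U_p] = 1`
  have s1 : ∀ u ∈ zc (qz (pr M p q)), y * u = u * y := by
    intro u hu
    rcases hQ u (h.zc_le_Q hpq hne hu) with h1 | h1
    · exact (comm_of_conj h1).symm
    · exfalso
      have h2 : a ∈ zc (qz (pr M p q)) := by
        have h3 : a = u * (y * u⁻¹ * y⁻¹) := by
          calc a = (a * y) * y⁻¹ := by group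
            _ = u * (y * u⁻¹ * y⁻¹) := by rw [← h1]; group
        rw [h3]
        exact mul_mem hu (zc_conj' hyp (inv_mem hu))
      exact hna ((mem_zc.1 h2).2.1 w hwq)
  -- `y ∈ Q_p`
  have hyq : y ∈ qz (pr M p q) := by
    obtain ⟨N, hN⟩ : ∃ N : Subgroup G, N = cz (pr M p q) ⊓ centralizer (zc (qz (pr M p q)) : Set G) := ⟨_, rfl⟩
    obtain ⟨A, hA⟩ : ∃ A : Subgroup G, A = qz r ⊓ centralizer (zc (qz (pr M p q)) : Set G) := ⟨_, rfl⟩
    have hAN : A ≤ N := by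
      rw [hA, hN]
      exact fun x hx => ⟨mem_cent.2 (mem_centralizer_iff.1 hx.2 _ hpz).symm, hx.2⟩
    have hNN : N ≤ normalizer (A : Set G) := by
      rw [hN, hA]
      apply norm_of
      rintro c ⟨hc1, hc2⟩ x ⟨hx1, hx2⟩
      refine ⟨conj_mem (le_normalizer_o2 (cz r)) (mem_cent.2 (mem_centralizer_iff.1 hc2 _ hr).symm) hx1, ?_⟩
      exact (centralizer (zc (qz (pr M p q)) : Set G)).mul_mem (mul_mem hc2 hx2) (inv_mem hc2)
    have hNle : N ≤ cz (pr M p q) := by rw [hN]; exact inf_le_left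
    have hNn : cz (pr M p q) ≤ normalizer (N : Set G) := by
      rw [hN]
      apply norm_of
      rintro c hc x ⟨hx1, hx2⟩
      refine ⟨(cz _).mul_mem ((cz _).mul_mem hc hx1) ((cz _).inv_mem hc), mem_centralizer_iff.2 fun u hu => ?_⟩
      have hu' : c⁻¹ * u * c⁻¹⁻¹ ∈ zc (qz (pr M p q)) := zc_conj' (mem_cent.1 (inv_mem hc)) hu
      rw [inv_inv] at hu'
      have h2 := mem_centralizer_iff.1 hx2 _ hu'
      calc u * (c * x * c⁻¹) = c * ((c⁻¹ * u * c) * x) * c⁻¹ := by group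
        _ = c * x * c⁻¹ * u := by rw [h2]; group
    have hA2 : IsPGroup 2 A := by
      rw [hA]
      exact (o2_isPGroup _).to_le inf_le_left
    have key : A ≤ qz (pr M p q) := le_o2_of hA2 hAN hNN hNle hNn
    apply key
    rw [hA]
    exact ⟨hyr, mem_centralizer_iff.2 fun c hc => (s1 c hc).symm⟩
  -- `a` is centralised by `Q`
  have haQ : ∀ r ∈ o2 P, r * a = a * r := by
    intro r hr
    apply comm_of_conj
    have e1 : r * x₀ * y * (r * x₀)⁻¹ = (r * a * r⁻¹) * (r * y * r⁻¹) := by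
      calc r * x₀ * y * (r * x₀)⁻¹ = r * (x₀ * y * x₀⁻¹) * r⁻¹ := by group
        _ = (r * a * r⁻¹) * (r * y * r⁻¹) := by rw [hx₀y]; group
    have hne' : r * a * r⁻¹ ≠ 1 := fun h0 => ha1 (by
      calc a = r⁻¹ * (r * a * r⁻¹) * r := by group
        _ = 1 := by rw [h0]; group)
    rcases hQ r hr with h1 | h1 <;> rcases hQ (r * x₀) (mul_mem hr hx₀) with h2 | h2
    · exfalso
      rw [e1, h1] at h2
      exact hne' (mul_eq_right.1 h2)
    · rw [e1, h1] at h2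
      exact mul_right_cancel h2
    · rw [e1, h1, ← mul_assoc] at h2
      have h3 := mul_eq_right.1 h2
      exact (eq_inv_of_mul_eq_one_left h3).trans hai
    · exfalso
      rw [e1, h1] at h2
      exact hne' (mul_eq_right.1 h2)
  obtain ⟨ρ, hρ, hρy⟩ : ∃ ρ ∈ V, w * y * w⁻¹ = ρ * y := by
    rcases h.KK_act hw hyq with h1 | h1
    · exact ⟨1, one_mem _, by rw [one_mul]; exact h1⟩
    · exact ⟨_, pr_mem M p q, h1⟩
  have hx' : w * x₀ * w⁻¹ ∈ o2 P := h.nQ hwP hx₀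
  have e1 : (w * x₀ * w⁻¹) * (ρ * y) * (w * x₀ * w⁻¹)⁻¹ = w * a * w⁻¹ * (ρ * y) := by
    calc (w * x₀ * w⁻¹) * (ρ * y) * (w * x₀ * w⁻¹)⁻¹
        = w * x₀ * w⁻¹ * (w * y * w⁻¹) * (w * x₀ * w⁻¹)⁻¹ := by rw [hρy]
      _ = w * (x₀ * y * x₀⁻¹) * w⁻¹ := by group
      _ = (w * a * w⁻¹) * (w * y * w⁻¹) := by rw [hx₀y]; group
      _ = w * a * w⁻¹ * (ρ * y) := by rw [hρy]
  have e2 : (w * x₀ * w⁻¹) * (ρ * y) * (w * x₀ * w⁻¹)⁻¹ =
      ρ * ((w * x₀ * w⁻¹) * y * (w * x₀ * w⁻¹)⁻¹) := by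
    calc (w * x₀ * w⁻¹) * (ρ * y) * (w * x₀ * w⁻¹)⁻¹
        = ((w * x₀ * w⁻¹) * ρ) * y * (w * x₀ * w⁻¹)⁻¹ := by group
      _ = ρ * ((w * x₀ * w⁻¹) * y * (w * x₀ * w⁻¹)⁻¹) := by rw [h.QcV hx' hρ]; group
  rw [e1] at e2
  have hρa : ρ * a = a * ρ := haQ ρ (h.V_le_Q hρ)
  apply hna
  rcases hQ _ hx' with h6 | h6
  · rw [h6] at e2
    have h8 := mul_eq_right.1 e2
    exfalso
    apply ha1
    calc a = w⁻¹ * (w * a * w⁻¹) * w := by group
      _ = 1 := by rw [h8]; group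
  · rw [h6] at e2
    have h8 : w * a * w⁻¹ * (ρ * y) = a * (ρ * y) := by
      rw [e2, ← mul_assoc, hρa, mul_assoc]
    exact comm_of_conj (mul_right_cancel h8)

end sd

end Cfsg.Agent.Omega.IId.SymWrD.AlphaA

end

section


/-!
# II.d, `SwCv`, T-T: `O₂(C_G(σ_i d)) ≤ S0`, `m = 2` (bb OMEGA #22419, helper666)

`i = x.1`, `d ∈ DD M` commuting with the elements of `S` fixing the summand `i`; `y = σ_i d`, `O = O₂(C_G(y))`.
-/

set_option autoImplicit false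
set_option linter.unusedSectionVars false

namespace Cfsg.Agent.Omega.IId.SymWrD.AlphaA

open Subgroup Pointwise Cfsg Cfsg.Agent.Omega.MinPar Cfsg.Agent.Omega.FFThm
open Cfsg.Agent.ZN (o2 zc)
open Cfsg.Agent.Omega.IId.SwB (S0 mem_S0 S0_le S0_fst S0_comm Q_le_S0 syl_S0 exists_in)
open Cfsg.Agent.Omega.IId.SymWrD.Ht (DD mem_DD)
open Cfsg.Agent.Omega.Half.SymA (Pt E Mv pm Amb0)
open Cfsg.Agent.MinSimple.VModule (mem_zc zc_le le_normalizer_o2 o2_isPGroup o2_le)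
open Triangle (KK KK_conj KK_le_o2 mem_cent mem_KK mem_zpowers_iff_of_sq cent_conj o2_cent_conj)
open Big (cz qz conj_mem norm_of conj_of_comm comm_of_conj le_o2_of)

universe u

variable {G : Type u} [Group G] {P V : Subgroup G} {k m : ℕ} {S : Sylow 2 G} {M : SymK (S : Subgroup G) P V ⊥ k m}

section letters

variable {μ ν : Equiv.Perm (Pt k m)}

/-- `m = 2`: the letters `≠ 0` of the summand of `c` -/
theorem letters (F : Fours M μ ν) (hm2 : m = 2) {c r : Pt k m} (hc : c.2 ≠ 0) (hr : r.1 = c.1) (hr0 : r.2 ≠ 0) :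
    r = c ∨ r = μ c ∨ r = ν c ∨ r = μ (ν c) := by
  classical
  by_contra hcon
  push Not at hcon
  obtain ⟨h1, h2, h3, h4⟩ := hcon
  have hν0 : (ν c).2 ≠ 0 := fun e => hc (F.nnz.1 e)
  have hμ0 : (μ c).2 ≠ 0 := fun e => hc (F.mnz.1 e)
  have hμν0 : (μ (ν c)).2 ≠ 0 := fun e => hν0 (F.mnz.1 e)
  have n1 : μ c ≠ c := F.mne c hc
  have n2 : ν c ≠ c := F.nne c hc
  have n3 : ν c ≠ μ c := F.nmu c hc
  have n4 : μ (ν c) ≠ c := fun e => n3 (by conv_rhs => rw [← e]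
                                           rw [F.msq])
  have n5 : μ (ν c) ≠ μ c := fun e => n2 (μ.injective e)
  have n6 : μ (ν c) ≠ ν c := F.mne _ hν0
  have key : ({(c.1, 0), c, μ c, ν c, μ (ν c), r} : Finset (Pt k m)).card ≤
      ((Finset.univ : Finset (Fin (2 ^ m + 1))).image (fun y => ((c.1, y) : Pt k m))).card := by
    refine Finset.card_le_card fun p hp => ?_
    refine Finset.mem_image.2 ⟨p.2, Finset.mem_univ _, Prod.ext ?_ rfl⟩
    simp only [Finset.mem_insert, Finset.mem_singleton] at hp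
    rcases hp with e | e | e | e | e | e
    · rw [e]
    · rw [e]
    · rw [e, F.mfst]
    · rw [e, F.nfst]
    · rw [e, F.mfst, F.nfst]
    · rw [e, hr]
  rw [Finset.card_image_of_injective _ (fun a b hab => (Prod.mk.inj hab).2), Finset.card_univ, Fintype.card_fin] at key
  have hz : ∀ {p : Pt k m}, p.2 ≠ 0 → ((c.1, 0) : Pt k m) ≠ p := fun hp e => hp (by rw [← e])
  rw [Finset.card_insert_of_notMem, Finset.card_insert_of_notMem, Finset.card_insert_of_notMem,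
    Finset.card_insert_of_notMem, Finset.card_insert_of_notMem, Finset.card_singleton] at key
  · rw [hm2] at key
    omega
  · rw [Finset.mem_singleton]; exact fun e => h4 e.symm
  · simp only [Finset.mem_insert, Finset.mem_singleton, not_or]
    exact ⟨n6.symm, fun e => h3 e.symm⟩
  · simp only [Finset.mem_insert, Finset.mem_singleton, not_or]
    exact ⟨n3.symm, n5.symm, fun e => h2 e.symm⟩
  · simp only [Finset.mem_insert, Finset.mem_singleton, not_or]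
    exact ⟨n1.symm, n2.symm, n4.symm, fun e => h1 e.symm⟩
  · simp only [Finset.mem_insert, Finset.mem_singleton, not_or]
    exact ⟨hz hc, hz hμ0, hz hν0, hz hμν0, hz hr0⟩

/-- `m = 2`: `σ_l` is the product of the two duads -/
theorem sg_eq (h : Sit S P V M) (F : Fours M μ ν) (hm2 : m = 2) {c : Pt k m} (hc : c.2 ≠ 0) :
    (sg h c.1).val = pr M c (μ c) * pr M (ν c) (μ (ν c)) := by
  classical
  have hν0 : (ν c).2 ≠ 0 := fun e => hc (F.nnz.1 e)
  have hμ0 : (μ c).2 ≠ 0 := fun e => hc (F.mnz.1 e)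
  have hμν0 : (μ (ν c)).2 ≠ 0 := fun e => hν0 (F.mnz.1 e)
  have n1 : μ c ≠ c := F.mne c hc
  have n2 : ν c ≠ c := F.nne c hc
  have n3 : ν c ≠ μ c := F.nmu c hc
  have n4 : μ (ν c) ≠ c := fun e => n3 (by conv_rhs => rw [← e]
                                           rw [F.msq])
  have n5 : μ (ν c) ≠ μ c := fun e => n2 (μ.injective e)
  have n6 : μ (ν c) ≠ ν c := F.mne _ hν0
  refine Half.SymA.inj M (sg_mem h c.1) (mul_mem (pr_mem M _ _) (pr_mem M _ _)) fun p => ?_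
  rw [Half.SymA.E_mul M (pr_mem M _ _) (pr_mem M _ _), E_sg, E_pr M (F.mfst c).symm, E_pr M (F.mfst (ν c)).symm]
  by_cases hp : p.1 = c.1
  · rw [if_pos hp]
    by_cases h0 : p.2 = 0
    · rw [if_pos h0, if_neg (fun e => hc (by rw [← e, h0])), if_neg (fun e => hμ0 (by rw [← e, h0])),
        if_neg (fun e => hν0 (by rw [← e, h0])), if_neg (fun e => hμν0 (by rw [← e, h0]))]
      decide
    · rw [if_neg h0]
      rcases letters F hm2 hc hp h0 with e | e | e | e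
      · rw [e, if_pos rfl, if_neg n1.symm, if_neg n2.symm, if_neg n4.symm]; decide
      · rw [e, if_neg n1, if_pos rfl, if_neg n3.symm, if_neg n5.symm]; decide
      · rw [e, if_neg n2, if_neg n3, if_pos rfl, if_neg n6.symm]; decide
      · rw [e, if_neg n4, if_neg n5, if_neg n6, if_pos rfl]; decide
  · rw [if_neg hp, if_neg (fun e => hp (by rw [e])), if_neg (fun e => hp (by rw [e, F.mfst])),
      if_neg (fun e => hp (by rw [e, F.nfst])), if_neg (fun e => hp (by rw [e, F.mfst, F.nfst]))]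
    decide

end letters

section main

variable [Finite G] (h : SD S P V M) (zv : zc (o2 P) ≤ V ⊔ DD M) {μ ν : Equiv.Perm (Pt k m)} (F : Fours M μ ν)
  (hm2 : m = 2) {x : Pt k m} (hx : x.2 ≠ 0) {d : G} (hd : d ∈ DD M)

include h hd

/-- the elements of `P` in the summands commuting with `σ` normalise `O` -/
theorem hn : ∀ g ∈ P, (∀ p, (pp M g p).1 = p.1) → g * (sg h.toSit x.1).val = (sg h.toSit x.1).val * g →
    g ∈ normalizer (qz ((sg h.toSit x.1).val * d) : Set G) := fun g hg hg1 hg2 =>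
  le_normalizer_o2 _ (Ht.RD.mem_K h.toSit hd hg hg1 hg2)

theorem act_out' {u : G} (hu : u ∈ qz ((sg h.toSit x.1).val * d)) (hu0 : u ∈ S0 h.toSit) {p : Pt k m}
    (hp : p.1 ≠ x.1) : pp M u p = p :=
  Ht.RD.act_out h.toSit (E_sg h.toSit x.1) (o2_isPGroup _) (sg_mem h.toSit x.1) (hn h hd) hu hu0 hp

theorem act_one' {u : G} (hu : u ∈ qz ((sg h.toSit x.1).val * d)) (hu0 : u ∈ S0 h.toSit) {a : Pt k m}
    (ha : a.1 = x.1) (ha0 : a.2 ≠ 0) (h1 : pp M u a = a) : pp M u = 1 :=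
  Ht.RD.act_one h.toSit (E_sg h.toSit x.1) (o2_isPGroup _) (sg_mem h.toSit x.1) (hn h hd) hu hu0 ha ha0 h1

theorem S0_le_K : S0 h.toSit ≤ cz ((sg h.toSit x.1).val * d) := fun _ hs =>
  Ht.RD.mem_K h.toSit hd (h.SP (S0_le h.toSit hs)) (S0_fst h.toSit hs) (S0_comm h.toSit hs x.1)

include zv in
/-- `O ∩ C(σ) ≤ S0` -/
theorem hOC : qz ((sg h.toSit x.1).val * d) ⊓ cz (sg h.toSit x.1).val ≤ S0 h.toSit := by
  refine Ht.RD.lemR_b h.toSit zv x.1 ((o2_isPGroup _).to_le inf_le_left) ?_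
    (fun y hy hy0 p hp => act_out' h hd hy.1 hy0 hp) fun y hy => mem_centralizer_singleton_iff.1 hy.2
  apply norm_of
  rintro s hs y ⟨hy1, hy2⟩
  have h1 : s ∈ cz (sg h.toSit x.1).val := mem_centralizer_singleton_iff.2 (S0_comm h.toSit hs x.1)
  exact ⟨conj_mem (le_normalizer_o2 _) (S0_le_K h hd hs) hy1, (cz _).mul_mem ((cz _).mul_mem h1 hy2) ((cz _).inv_mem h1)⟩

/-- the element `w` -/
theorem exists_w (hO : ¬ qz ((sg h.toSit x.1).val * d) ≤ S0 h.toSit) : ∃ w ∈ qz ((sg h.toSit x.1).val * d),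
    w ∉ S0 h.toSit ∧ (∀ s ∈ S0 h.toSit, w * s * w⁻¹ ∈ S0 h.toSit) ∧ ∀ s ∈ S0 h.toSit, w⁻¹ * s * w ∈ S0 h.toSit := by
  have : Fact (Nat.Prime 2) := ⟨Nat.prime_two⟩
  have hnn : S0 h.toSit ≤ normalizer (qz ((sg h.toSit x.1).val * d) : Set G) :=
    (S0_le_K h hd).trans (le_normalizer_o2 _)
  have hS02 : IsPGroup 2 (S0 h.toSit) := S.isPGroup'.to_le (S0_le h.toSit)
  have hX : IsPGroup 2 (S0 h.toSit ⊔ qz ((sg h.toSit x.1).val * d) : Subgroup G) :=
    hS02.to_sup_of_normal_right' (o2_isPGroup _) hnn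
  have hlt : S0 h.toSit < S0 h.toSit ⊔ qz ((sg h.toSit x.1).val * d) := by
    refine lt_of_le_of_ne le_sup_left fun h3 => hO ?_
    rw [h3]
    exact le_sup_right
  obtain ⟨y, hy, hy1, hy2⟩ := Involutions.BaerSuzuki.exists_mem_normalizer_of_lt hX hlt
  obtain ⟨s₀, hs₀, w, hw, rfl⟩ := mem_sup_norm hnn hy
  have hwn : w ∈ normalizer (S0 h.toSit : Set G) := by
    have h3 : w = s₀⁻¹ * (s₀ * w) := by group
    rw [h3]
    exact mul_mem (inv_mem (le_normalizer hs₀)) hy2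
  refine ⟨w, hw, fun h3 => hy1 (mul_mem hs₀ h3), fun s hs => (mem_normalizer_iff.1 hwn s).1 hs, fun s hs => ?_⟩
  have := (mem_normalizer_iff.1 (inv_mem hwn) s).1 hs
  rwa [inv_inv] at this

section w

variable {w : G} (hwO : w ∈ qz ((sg h.toSit x.1).val * d)) (hw1 : ∀ s ∈ S0 h.toSit, w * s * w⁻¹ ∈ S0 h.toSit)
  (hw2 : ∀ s ∈ S0 h.toSit, w⁻¹ * s * w ∈ S0 h.toSit)

include hwO hw2 in
/-- `[w, S0] ≤ O ∩ S0` -/
theorem comm_O {s : G} (hs : s ∈ S0 h.toSit) : s⁻¹ * (w⁻¹ * s * w) ∈ qz ((sg h.toSit x.1).val * d) ∧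
    s⁻¹ * (w⁻¹ * s * w) ∈ S0 h.toSit := by
  refine ⟨?_, mul_mem (inv_mem hs) (hw2 s hs)⟩
  have h1 := conj_mem (le_normalizer_o2 _) (inv_mem (S0_le_K h hd hs)) (inv_mem hwO)
  rw [inv_inv] at h1
  have e : s⁻¹ * (w⁻¹ * s * w) = s⁻¹ * w⁻¹ * s * w := by group
  rw [e]
  exact mul_mem h1 hwO

include hwO hw2 in
theorem act_w {s : G} (hs : s ∈ S0 h.toSit) {p : Pt k m} (hp : p.1 ≠ x.1) : pp M (w⁻¹ * s * w) p = pp M s p := by
  obtain ⟨h1, h2⟩ := comm_O h hd hwO hw2 hs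
  have e : w⁻¹ * s * w = s * (s⁻¹ * (w⁻¹ * s * w)) := by group
  rw [e, h.mul (h.SP (S0_le h.toSit hs)) (h.SP (S0_le h.toSit h2)), Equiv.Perm.mul_apply, act_out' h hd h1 h2 hp]

include hwO hw2 zv F in
/-- `w` centralises the duads outside of the summand `x.1` -/
theorem duad {c : Pt k m} (hc : c.2 ≠ 0) (hcx : c.1 ≠ x.1) : w * pr M c (μ c) = pr M c (μ c) * w :=
  coreDuad h.toSit zv F (J := {x.1}) (fun s hs => ⟨hw2 s hs, fun _ hp => act_w h hd hwO hw2 hs hp⟩) hc hcx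

include zv F hm2 hwO hw2 hx in
/-- some `o ∈ O ∩ S0` maps `n` to `σ n` -/
theorem exists_o (hwσ : w * (sg h.toSit x.1).val ≠ (sg h.toSit x.1).val * w) :
    ∃ o ∈ qz ((sg h.toSit x.1).val * d), o ∈ S0 h.toSit ∧
      o * pr M x (μ x) * o⁻¹ = (sg h.toSit x.1).val * pr M x (μ x) := by
  classical
  have hν0 : (ν x).2 ≠ 0 := fun e => hx (F.nnz.1 e)
  have hμ0 : (μ x).2 ≠ 0 := fun e => hx (F.mnz.1 e)
  have n1 : μ x ≠ x := F.mne x hx
  have n2 : ν x ≠ x := F.nne x hx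
  have n3 : ν x ≠ μ x := F.nmu x hx
  -- a nontrivial element
  obtain ⟨u, hu, hu0, hu1⟩ : ∃ u ∈ qz ((sg h.toSit x.1).val * d), u ∈ S0 h.toSit ∧ pp M u ≠ 1 := by
    by_contra hcon
    push Not at hcon
    apply hwσ
    have key : ∀ {c : Pt k m}, c.2 ≠ 0 → w * pr M c (μ c) = pr M c (μ c) * w := fun {c} hc => by
      refine coreDuad h.toSit zv F (J := ∅) (fun s hs => ⟨hw2 s hs, fun p _ => ?_⟩) hc (Set.notMem_empty _)
      obtain ⟨h1, h2⟩ := comm_O h hd hwO hw2 hs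
      have e : w⁻¹ * s * w = s * (s⁻¹ * (w⁻¹ * s * w)) := by group
      rw [e, h.mul (h.SP (S0_le h.toSit hs)) (h.SP (S0_le h.toSit h2)), hcon _ h1 h2, mul_one]
    rw [sg_eq h.toSit F hm2 hx]
    calc w * (pr M x (μ x) * pr M (ν x) (μ (ν x))) = w * pr M x (μ x) * pr M (ν x) (μ (ν x)) := by group
      _ = pr M x (μ x) * (w * pr M (ν x) (μ (ν x))) := by rw [key hx]; group
      _ = pr M x (μ x) * pr M (ν x) (μ (ν x)) * w := by rw [key hν0]; group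
  have hmv : ∀ a : Pt k m, a.1 = x.1 → a.2 ≠ 0 → pp M u a ≠ a := fun a ha ha0 e =>
    hu1 (act_one' h hd hu hu0 ha ha0 e)
  -- an element with `x ↦ ν x` or `μ (ν x)`
  obtain ⟨o, ho, ho0, hox⟩ : ∃ o ∈ qz ((sg h.toSit x.1).val * d), o ∈ S0 h.toSit ∧
      (pp M o x = ν x ∨ pp M o x = μ (ν x)) := by
    have h1 : (pp M u x).1 = x.1 := S0_fst h.toSit hu0 x
    have h2 : (pp M u x).2 ≠ 0 := fun e => hx ((h.snd (S0_le h.toSit hu0)).1 e)
    rcases letters F hm2 hx h1 h2 with e | e | e | e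
    · exact absurd e (hmv x rfl hx)
    · -- conjugate with `(μ x ν x)`
      obtain ⟨g, hg, hgp⟩ := Ht.RD.exists_swapP h.toSit (a := μ x) (b := ν x) ((F.mfst x).trans (F.nfst x).symm)
      have hgf : ∀ p, (pp M g p).1 = p.1 := fun p => by
        rw [hgp]; exact swap_fst' h.toSit ((F.mfst x).trans (F.nfst x).symm) p
      have hgσ : g * (sg h.toSit x.1).val = (sg h.toSit x.1).val * g := by
        refine comm_swap h.toSit hg hgp (sg_mem h.toSit x.1) ?_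
        rw [E_sg, E_sg, if_pos (F.mfst x), if_pos (F.nfst x), if_neg hμ0, if_neg hν0]
      have hgK := Ht.RD.mem_K h.toSit hd hg hgf hgσ
      have huP := h.SP (S0_le h.toSit hu0)
      refine ⟨g * u * g⁻¹, conj_mem (le_normalizer_o2 _) hgK hu, ?_, Or.inl ?_⟩
      · refine hOC h zv hd ⟨conj_mem (le_normalizer_o2 _) hgK hu, mem_centralizer_singleton_iff.2 ?_⟩
        have h3 := S0_comm h.toSit hu0 x.1
        calc g * u * g⁻¹ * (sg h.toSit x.1).val = g * u * (g⁻¹ * ((sg h.toSit x.1).val * g)) * g⁻¹ := by group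
          _ = g * (u * (sg h.toSit x.1).val) * g⁻¹ := by rw [← hgσ]; group
          _ = (g * (sg h.toSit x.1).val) * u * g⁻¹ := by rw [h3]; group
          _ = (sg h.toSit x.1).val * (g * u * g⁻¹) := by rw [hgσ]; group
      · rw [h.conj hg huP, hgp, Equiv.swap_inv, Equiv.Perm.mul_apply, Equiv.Perm.mul_apply,
          Equiv.swap_apply_of_ne_of_ne n1.symm n2.symm, e, Equiv.swap_apply_left]
    · exact ⟨u, hu, hu0, Or.inl e⟩
    · exact ⟨u, hu, hu0, Or.inr e⟩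
  refine ⟨o, ho, ho0, ?_⟩
  have hoS := S0_le h.toSit ho0
  rw [h.conj_pr (h.SP hoS) (F.mfst x).symm, F.meqv o hoS, sg_eq h.toSit F hm2 hx]
  have e1 : pr M x (μ x) * pr M (ν x) (μ (ν x)) * pr M x (μ x) = pr M (ν x) (μ (ν x)) := by
    rw [h.Vcomm (pr_mem M x (μ x)) (pr_mem M (ν x) (μ (ν x))), mul_assoc, h.pr_sq, mul_one]
  rw [e1]
  rcases hox with e | e
  · rw [e]
  · rw [e, F.msq, pr_comm M ((F.mfst (ν x)))]

end w

end main

end Cfsg.Agent.Omega.IId.SymWrD.AlphaA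

end

section


/-!
# II.d, `SwCv`, T-T: `O₂(C_G(σ_i d)) ≤ S0`, `m = 2`, II (bb OMEGA #22419, helper666)

* `o2_le_S0` : **`O₂(C_G(σ_i d)) ≤ S0`**, `m = 2`.
-/

set_option autoImplicit false
set_option linter.unusedSectionVars false

namespace Cfsg.Agent.Omega.IId.SymWrD.AlphaA

open Subgroup Pointwise Cfsg Cfsg.Agent.Omega.MinPar Cfsg.Agent.Omega.FFThm
open Cfsg.Agent.ZN (o2 zc)
open Cfsg.Agent.Omega.IId.SwB (S0 mem_S0 S0_le S0_fst S0_comm Q_le_S0 syl_S0 exists_in)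
open Cfsg.Agent.Omega.IId.SymWrD.Ht (DD mem_DD)
open Cfsg.Agent.Omega.Half.SymA (Pt E Mv pm Amb0)
open Cfsg.Agent.MinSimple.VModule (mem_zc zc_le le_normalizer_o2 o2_isPGroup o2_le)
open Triangle (KK KK_conj KK_le_o2 mem_cent mem_KK mem_zpowers_iff_of_sq cent_conj o2_cent_conj)
open Big (cz qz conj_mem norm_of conj_of_comm comm_of_conj le_o2_of norm_o2)

universe u

variable {G : Type u} [Group G] {P V : Subgroup G} {k m : ℕ} {S : Sylow 2 G} {M : SymK (S : Subgroup G) P V ⊥ k m}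

section tools

variable (h : Sit S P V M)
include h

/-- `V ∩ DD M = 1` -/
theorem eq_one_of_DD {v : G} (hv : v ∈ V) (hd : v ∈ DD M) : v = 1 := by
  classical
  refine eq_one_of_const M h.hm1 hv fun p q hpq _ => ?_
  obtain ⟨g, hg, hgp⟩ := Ht.RD.exists_swapP h hpq
  have h1 := (mem_DD.1 hd).2 g hg fun r => by rw [hgp]; exact swap_fst' h hpq r
  have h2 := (h.comm_iff hg hv).1 h1 p
  rw [hgp, Equiv.swap_apply_left] at h2
  exact h2.symm

/-- `DD M` is normalised by `S` -/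
theorem DD_conj {s d : G} (hs : s ∈ P) (hd : d ∈ DD M) : s * d * s⁻¹ ∈ DD M := by
  refine mem_DD.2 ⟨Sit.zz_conj hs (mem_DD.1 hd).1, fun g hg hg1 => ?_⟩
  have h1 := (mem_DD.1 hd).2 (s⁻¹ * g * s) (mul_mem (mul_mem (inv_mem hs) hg) hs) fun r => by
    rw [h.mul (mul_mem (inv_mem hs) hg) hs, h.mul (inv_mem hs) hg, h.inv hs]
    have h2 : (pp M g (pp M s r)).1 = (pp M s r).1 := hg1 _
    have h3 : ((pp M s)⁻¹ (pp M g (pp M s r))).1 = ((pp M s)⁻¹ (pp M s r)).1 := by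
      rw [← h.inv hs]
      exact h.fst (inv_mem hs) h2
    rw [Equiv.Perm.mul_apply, Equiv.Perm.mul_apply, h3]
    rw [show (pp M s)⁻¹ (pp M s r) = r from (pp M s).symm_apply_apply r]
  calc g * (s * d * s⁻¹) = s * (s⁻¹ * g * s * d) * s⁻¹ := by group
    _ = s * d * s⁻¹ * g := by rw [h1]; group

/-- the action on the `σ` -/
theorem conj_sg {s : G} (hs : s ∈ (S : Subgroup G)) (p : Pt k m) :
    s * (sg h p.1).val * s⁻¹ = (sg h (pp M s p).1).val := by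
  have hsP := h.SP hs
  refine Half.SymA.inj M (h.amb.conj_mem hsP (sg_mem h _)) (sg_mem h _) fun r => ?_
  rw [E_conj' hsP (sg_mem h _), E_sg, E_sg]
  obtain ⟨r', hr'⟩ : ∃ r', r' = (pp M s)⁻¹ r := ⟨_, rfl⟩
  have h1 : pp M s r' = r := by rw [hr']; exact (pp M s).apply_symm_apply r
  rw [← hr', ← h1]
  have h2 : r'.1 = p.1 ↔ (pp M s r').1 = (pp M s p).1 := by
    refine ⟨fun e => h.fst hsP e, fun e => ?_⟩
    have h3 := h.fst (inv_mem hsP) e
    rw [h.inv hsP] at h3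
    rwa [show (pp M s)⁻¹ (pp M s r') = r' from (pp M s).symm_apply_apply r',
      show (pp M s)⁻¹ (pp M s p) = p from (pp M s).symm_apply_apply p] at h3
  have h3 : r'.2 = 0 ↔ (pp M s r').2 = 0 := (h.snd hs).symm
  simp only [h2, h3]

end tools

section main

variable [Finite G] (h : SD S P V M) (zv : zc (o2 P) ≤ V ⊔ DD M) {μ ν : Equiv.Perm (Pt k m)} (F : Fours M μ ν)
  (hm2 : m = 2) {x : Pt k m} (hx : x.2 ≠ 0) {d : G} (hd : d ∈ DD M)
  {w : G} (hwO : w ∈ qz ((sg h.toSit x.1).val * d)) (hw1 : ∀ s ∈ S0 h.toSit, w * s * w⁻¹ ∈ S0 h.toSit)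
  (hw2 : ∀ s ∈ S0 h.toSit, w⁻¹ * s * w ∈ S0 h.toSit)
  (hwσ : w * (sg h.toSit x.1).val ≠ (sg h.toSit x.1).val * w)

include h

/-- an element fixed by `S0` and supported in a summand is `1` or `σ` -/
theorem fixed_one {t : G} (ht : t ∈ V) (h1 : ∀ p : Pt k m, p.1 ≠ x.1 → E M t p = 0)
    (h2 : ∀ s ∈ S0 h.toSit, s * t = t * s) : t = 1 ∨ t = (sg h.toSit x.1).val := by
  have h3 : ∀ a b : Pt k m, a.1 = x.1 → b.1 = x.1 → a.2 ≠ 0 → b.2 ≠ 0 → E M t a = E M t b := by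
    intro a b ha hb ha0 hb0
    obtain ⟨s, hs, h4, -⟩ := exists_in h.toSit (ha.trans hb.symm) ha0 hb0
    rw [← h4]
    exact ((h.comm_iff (h.SP (S0_le h.toSit hs)) ht).1 (h2 s hs) a).symm
  obtain ⟨y₀, hy₀⟩ := SwB.exists_ne_zero h.hm1
  have h4 : E M t (x.1, 0) = 0 := Half.SymA.even0 M h.hm1 ht (i := x.1) (c := E M t (x.1, y₀))
    fun y hy => h3 _ _ rfl rfl hy hy₀
  rcases Half.SymA.zmod2 (E M t (x.1, y₀)) with h5 | h5
  · left
    refine Half.SymA.eq_one M ht fun p => ?_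
    by_cases hp : p.1 = x.1
    · by_cases hp0 : p.2 = 0
      · rw [show p = (x.1, 0) from Prod.ext hp hp0]; exact h4
      · rw [h3 p (x.1, y₀) hp rfl hp0 hy₀]; exact h5
    · exact h1 p hp
  · right
    refine Half.SymA.inj M ht (sg_mem h.toSit x.1) fun p => ?_
    rw [E_sg]
    by_cases hp : p.1 = x.1
    · rw [if_pos hp]
      by_cases hp0 : p.2 = 0
      · rw [if_pos hp0, show p = (x.1, 0) from Prod.ext hp hp0]; exact h4
      · rw [if_neg hp0, h3 p (x.1, y₀) hp rfl hp0 hy₀]; exact h5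
    · rw [if_neg hp]; exact h1 p hp

include hw2 in
/-- `τ = w σ w⁻¹` is centralised by `S0` -/
theorem tau_S0 {s : G} (hs : s ∈ S0 h.toSit) :
    s * (w * (sg h.toSit x.1).val * w⁻¹) = w * (sg h.toSit x.1).val * w⁻¹ * s := by
  have h1 := S0_comm h.toSit (hw2 s hs) x.1
  calc s * (w * (sg h.toSit x.1).val * w⁻¹) = w * (w⁻¹ * s * w * (sg h.toSit x.1).val) * w⁻¹ := by group
    _ = w * (sg h.toSit x.1).val * w⁻¹ * s := by rw [h1]; group

theorem tau_sq : w * (sg h.toSit x.1).val * w⁻¹ * (w * (sg h.toSit x.1).val * w⁻¹) = 1 := by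
  calc w * (sg h.toSit x.1).val * w⁻¹ * (w * (sg h.toSit x.1).val * w⁻¹) =
      w * ((sg h.toSit x.1).val * (sg h.toSit x.1).val) * w⁻¹ := by group
    _ = 1 := by rw [h.Vsq (sg_mem h.toSit x.1)]; group

theorem tau_ne_one (hx : x.2 ≠ 0) : w * (sg h.toSit x.1).val * w⁻¹ ≠ 1 := by
  intro e
  have h1 : (sg h.toSit x.1).val = 1 := by
    calc (sg h.toSit x.1).val = w⁻¹ * (w * (sg h.toSit x.1).val * w⁻¹) * w := by group
      _ = 1 := by rw [e]; group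
  have h2 := E_sg h.toSit x.1 x
  rw [h1, Half.SymA.E_one, if_pos rfl, if_neg hx] at h2
  exact zero_ne_one h2

include hwσ in
theorem tau_ne : w * (sg h.toSit x.1).val * w⁻¹ ≠ (sg h.toSit x.1).val := fun e => hwσ (mul_inv_eq_iff_eq_mul.1 e)

include F hm2 hx hw2 in
/-- the conjugates of `y' = w n w⁻¹` under `S0` -/
theorem y_S0 {s : G} (hs : s ∈ S0 h.toSit) :
    s * (w * pr M x (μ x) * w⁻¹) * s⁻¹ = w * pr M x (μ x) * w⁻¹ ∨
      s * (w * pr M x (μ x) * w⁻¹) * s⁻¹ = w * (sg h.toSit x.1).val * w⁻¹ * (w * pr M x (μ x) * w⁻¹) := by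
  have hs' := hw2 s hs
  have hs'S := S0_le h.toSit hs'
  have h1 := h.conj_pr (h.SP hs'S) (F.mfst x).symm
  rw [F.meqv _ hs'S] at h1
  have h2 : s * (w * pr M x (μ x) * w⁻¹) * s⁻¹ =
      w * (w⁻¹ * s * w * pr M x (μ x) * (w⁻¹ * s * w)⁻¹) * w⁻¹ := by group
  rw [h2, h1]
  have hl : (pp M (w⁻¹ * s * w) x).1 = x.1 := S0_fst h.toSit hs' x
  have hl0 : (pp M (w⁻¹ * s * w) x).2 ≠ 0 := fun e => hx ((h.snd hs'S).1 e)
  have hb : pr M (ν x) (μ (ν x)) = (sg h.toSit x.1).val * pr M x (μ x) := by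
    rw [sg_eq h.toSit F hm2 hx, h.Vcomm (pr_mem M x (μ x)) (pr_mem M (ν x) (μ (ν x))), mul_assoc, h.pr_sq, mul_one]
  have hb2 : w * pr M (ν x) (μ (ν x)) * w⁻¹ =
      w * (sg h.toSit x.1).val * w⁻¹ * (w * pr M x (μ x) * w⁻¹) := by rw [hb]; group
  rcases letters F hm2 hx hl hl0 with e | e | e | e
  · left; rw [e]
  · left; rw [e, F.msq, pr_comm M (F.mfst x)]
  · right; rw [e, hb2]
  · right; rw [e, F.msq, pr_comm M (F.mfst (ν x)), hb2]

theorem n_mem_S0 : pr M x (μ x) ∈ S0 h.toSit := Q_le_S0 h.toSit (h.V_le_Q (pr_mem M _ _))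

include F hm2 hx hd hwO hw1 hw2 in
/-- `y' ∈ O₂(P)` -/
theorem y_mem_Q : w * pr M x (μ x) * w⁻¹ ∈ o2 P := by
  classical
  have hn0 := n_mem_S0 (x := x) (μ := μ) h
  have hy0 := hw1 _ hn0
  rw [h.mem_Q_iff (S0_le h.toSit hy0)]
  -- `o' = y' n⁻¹`
  have ho : w * pr M x (μ x) * w⁻¹ * (pr M x (μ x))⁻¹ ∈ qz ((sg h.toSit x.1).val * d) := by
    have h1 := conj_mem (le_normalizer_o2 _) (S0_le_K h hd hn0) (inv_mem hwO)
    have e : w * pr M x (μ x) * w⁻¹ * (pr M x (μ x))⁻¹ = w * (pr M x (μ x) * w⁻¹ * (pr M x (μ x))⁻¹) := by group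
    rw [e]
    exact mul_mem hwO h1
  have ho0 : w * pr M x (μ x) * w⁻¹ * (pr M x (μ x))⁻¹ ∈ S0 h.toSit := mul_mem hy0 (inv_mem hn0)
  have hpn : pp M (pr M x (μ x)) = 1 := (h.mem_Q_iff (S0_le h.toSit hn0)).1 (h.V_le_Q (pr_mem M _ _))
  have hpo : pp M (w * pr M x (μ x) * w⁻¹ * (pr M x (μ x))⁻¹) = pp M (w * pr M x (μ x) * w⁻¹) := by
    rw [h.mul (h.SP (S0_le h.toSit hy0)) (inv_mem (h.SP (S0_le h.toSit hn0))), h.inv (h.SP (S0_le h.toSit hn0)), hpn,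
      inv_one, mul_one]
  by_contra hne
  obtain ⟨b, hb⟩ : ∃ b, b = pp M (w * pr M x (μ x) * w⁻¹) x := ⟨_, rfl⟩
  have hbx : b ≠ x := fun e => hne (by
    rw [← hpo]
    exact act_one' h hd ho ho0 rfl hx (by rw [hpo, ← hb, e]))
  have hb1 : b.1 = x.1 := by rw [hb]; exact S0_fst h.toSit hy0 x
  have hb0 : b.2 ≠ 0 := fun e => hx ((h.snd (S0_le h.toSit hy0)).1 (by rw [← hb]; exact e))
  -- `v = (0 x)`
  have hvV : pr M (x.1, 0) x ∈ V := pr_mem M _ _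
  have hyP := h.SP (S0_le h.toSit hy0)
  have h1 : w * pr M x (μ x) * w⁻¹ * pr M (x.1, 0) x * (w * pr M x (μ x) * w⁻¹)⁻¹ = pr M (x.1, 0) b := by
    rw [h.conj_pr hyP (p := (x.1, 0)) (q := x) rfl, ← hb]
    congr 1
    exact Ht.RD.S0_zero h.toSit hy0 _
  have h2 : pr M (x.1, 0) x * (w * pr M x (μ x) * w⁻¹) * (pr M (x.1, 0) x)⁻¹ =
      pr M x b * (w * pr M x (μ x) * w⁻¹) := by
    have hvi : (pr M (x.1, 0) x)⁻¹ = pr M (x.1, 0) x := inv_eq_of_mul_eq_one_left (h.pr_sq _ _)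
    rw [hvi, mul_assoc]
    have h3 : w * pr M x (μ x) * w⁻¹ * pr M (x.1, 0) x = pr M (x.1, 0) b * (w * pr M x (μ x) * w⁻¹) :=
      mul_inv_eq_iff_eq_mul.1 h1
    rw [h3, ← mul_assoc, pr_comm M (p := (x.1, 0)) (q := x) rfl,
      pr_mul M (p := x) (q := (x.1, 0)) (r := b) rfl hb1.symm]
  have hxb : pr M x b ≠ 1 := pr_ne_one M hb1.symm hbx.symm
  have h4 : w * (sg h.toSit x.1).val * w⁻¹ = pr M x b := by
    rcases y_S0 h F hm2 hx hw2 (Q_le_S0 h.toSit (h.V_le_Q hvV)) with h5 | h5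
    · rw [h2] at h5
      exact absurd (mul_eq_right.1 h5) hxb
    · rw [h2] at h5
      exact (mul_right_cancel h5).symm
  -- a third letter
  obtain ⟨r, hr, hr'⟩ := exists_pt4 h.hm x.1 {(x.1, 0), x, b} (Finset.card_le_three.trans (by norm_num))
  simp only [Finset.mem_insert, Finset.mem_singleton, not_or] at hr'
  have hr0 : r.2 ≠ 0 := fun e => hr'.1 (Prod.ext hr e)
  obtain ⟨s, hs, h6, -⟩ := exists_in h.toSit hr.symm hx hr0
  have h7 := tau_S0 h (x := x) hw2 hs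
  rw [h4] at h7
  have h8 := (h.comm_iff (h.SP (S0_le h.toSit hs)) (pr_mem M x b)).1 h7 x
  rw [h6, E_pr_left M hb1.symm hbx.symm, E_pr_of_ne M hb1.symm hr'.2.1 hr'.2.2] at h8
  exact zero_ne_one h8

include zv F hm2 hx hd hwO hw1 hw2 hwσ in
/-- some `q ∈ O₂(P)` moves `y'` -/
theorem exists_q : ∃ q ∈ o2 P, q * (w * pr M x (μ x) * w⁻¹) * q⁻¹ =
    w * (sg h.toSit x.1).val * w⁻¹ * (w * pr M x (μ x) * w⁻¹) := by
  by_contra hcon
  push Not at hcon
  have hyQ : ∀ q ∈ o2 P, q * (w * pr M x (μ x) * w⁻¹) = w * pr M x (μ x) * w⁻¹ * q := fun q hq =>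
    comm_of_conj ((y_S0 h F hm2 hx hw2 (Q_le_S0 h.toSit hq)).resolve_right (hcon q hq))
  have hyy : w * pr M x (μ x) * w⁻¹ * (w * pr M x (μ x) * w⁻¹) = 1 := by
    calc w * pr M x (μ x) * w⁻¹ * (w * pr M x (μ x) * w⁻¹) = w * (pr M x (μ x) * pr M x (μ x)) * w⁻¹ := by group
      _ = 1 := by rw [h.pr_sq]; group
  obtain ⟨v, hv, δ, hδ, hyv⟩ := Ht.RD.zz_dec' h.toSit (zv (mem_zc_of h.toSit hyy hyQ))
  obtain ⟨o, ho, ho0, hon⟩ := exists_o h zv F hm2 hx hd hwO hw2 hwσ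
  obtain ⟨o₂, ho₂⟩ : ∃ o₂, o₂ = w * o * w⁻¹ := ⟨_, rfl⟩
  have hoO : o₂ ∈ qz ((sg h.toSit x.1).val * d) := by rw [ho₂]; exact mul_mem (mul_mem hwO ho) (inv_mem hwO)
  have ho₂0 : o₂ ∈ S0 h.toSit := by rw [ho₂]; exact hw1 o ho0
  have ho₂P := h.SP (S0_le h.toSit ho₂0)
  have h1 : o₂ * (w * pr M x (μ x) * w⁻¹) * o₂⁻¹ =
      w * (sg h.toSit x.1).val * w⁻¹ * (w * pr M x (μ x) * w⁻¹) := by
    calc o₂ * (w * pr M x (μ x) * w⁻¹) * o₂⁻¹ = w * (o * pr M x (μ x) * o⁻¹) * w⁻¹ := by rw [ho₂]; group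
      _ = w * (sg h.toSit x.1).val * w⁻¹ * (w * pr M x (μ x) * w⁻¹) := by rw [hon]; group
  have hδc := Ht.RD.S0_DD h.toSit ho₂0 hδ
  have h2 : w * (sg h.toSit x.1).val * w⁻¹ = o₂ * v * o₂⁻¹ * v⁻¹ := by
    rw [hyv] at h1
    have h3 : o₂ * (v * δ) * o₂⁻¹ = o₂ * v * o₂⁻¹ * δ := by
      calc o₂ * (v * δ) * o₂⁻¹ = o₂ * v * o₂⁻¹ * (o₂ * δ * o₂⁻¹) := by group
        _ = o₂ * v * o₂⁻¹ * δ := by rw [conj_of_comm hδc]
    rw [h3, ← mul_assoc] at h1
    have h4 := mul_right_cancel h1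
    rw [h4]; group
  have hcV : o₂ * v * o₂⁻¹ ∈ V := h.amb.conj_mem ho₂P hv
  have htV : w * (sg h.toSit x.1).val * w⁻¹ ∈ V := by rw [h2]; exact mul_mem hcV (inv_mem hv)
  have h3 : ∀ p : Pt k m, p.1 ≠ x.1 → E M (w * (sg h.toSit x.1).val * w⁻¹) p = 0 := by
    intro p hp
    rw [h2, Half.SymA.E_mul M hcV (inv_mem hv), E_conj' ho₂P hv, Half.SymA.E_inv M hv]
    have h4 : (pp M o₂)⁻¹ p = p := by
      rw [Equiv.Perm.inv_eq_iff_eq]
      exact (act_out' h hd hoO ho₂0 hp).symm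
    rw [h4]
    exact CharTwo.add_self_eq_zero _
  rcases fixed_one h htV h3 (fun s hs => tau_S0 h hw2 hs) with h5 | h5
  · exact tau_ne_one h hx h5
  · exact tau_ne h hwσ h5

include zv F hm2 hx hd hwO hw1 hw2 hwσ in
/-- `τ ∈ DD M`, `2 ≤ k` -/
theorem tau_DD {l : Fin k} (hl : l ≠ x.1) : w * (sg h.toSit x.1).val * w⁻¹ ∈ DD M := by
  classical
  have htc : ∀ q ∈ o2 P, q * (w * (sg h.toSit x.1).val * w⁻¹) = w * (sg h.toSit x.1).val * w⁻¹ * q := fun q hq =>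
    tau_S0 h hw2 (Q_le_S0 h.toSit hq)
  obtain ⟨v, hv, δ, hδ, hτ⟩ := Ht.RD.zz_dec' h.toSit (zv (mem_zc_of h.toSit (tau_sq h) htc))
  have hyQ := y_mem_Q h F hm2 hx hd hwO hw1 hw2
  have hex := exists_q h zv F hm2 hx hd hwO hw1 hw2 hwσ
  have hQ : ∀ q ∈ o2 P, q * (w * pr M x (μ x) * w⁻¹) * q⁻¹ = w * pr M x (μ x) * w⁻¹ ∨
      q * (w * pr M x (μ x) * w⁻¹) * q⁻¹ = w * (sg h.toSit x.1).val * w⁻¹ * (w * pr M x (μ x) * w⁻¹) :=
    fun q hq => y_S0 h F hm2 hx hw2 (Q_le_S0 h.toSit hq)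
  -- `y' ∈ O₂(C_G(p_c))`
  have hyc : ∀ {c : Pt k m}, c.2 ≠ 0 → c.1 ≠ x.1 → w * pr M x (μ x) * w⁻¹ ∈ qz (pr M c (μ c)) := by
    intro c hc hcx
    have h1 : pr M x (μ x) ∈ zc (qz (pr M c (μ c))) := by
      refine h.perp (F.mfst c).symm (F.mne c hc).symm (pr_mem M _ _) ?_
      rw [E_pr_of_ne M (F.mfst x).symm (fun e => hcx (by rw [e])) (fun e => hcx (by rw [e, F.mfst])),
        E_pr_of_ne M (F.mfst x).symm (fun e => hcx (by rw [← F.mfst c, e])) (fun e => hcx (by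
          rw [← F.mfst c, e, F.mfst]))]
    exact zc_le _ (zc_conj' (duad h zv F hd hwO hw2 hc hcx) h1)
  -- the pairs
  have key : ∀ {p q c : Pt k m}, p.1 = q.1 → p ≠ q → c.2 ≠ 0 → c.1 ≠ x.1 →
      E M (pr M c (μ c)) p = E M (pr M c (μ c)) q → E M v p = E M v q := by
    intro p q c hpq hne hc hcx hE
    obtain ⟨g, hg, hgp⟩ := h.par p q hpq hne
    have hgP := h.QP p q hpq hne (h.KK_le hpq hne hg)
    have h1 := c2 h hpq hne (h.perp hpq hne (pr_mem M c (μ c)) hE) (hyc hc hcx) hyQ (tau_sq h) hQ hex g hg hgp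
    have h2 : g * δ = δ * g := (mem_DD.1 hδ).2 g hgP fun r => by rw [hgp]; exact swap_fst' h.toSit hpq r
    rw [hτ] at h1
    have h3 : g * v = v * g := by
      have h4 : g * v * δ = v * g * δ := by
        calc g * v * δ = g * (v * δ) := by group
          _ = v * (δ * g) := by rw [h1]; group
          _ = v * g * δ := by rw [← h2]; group
      exact mul_right_cancel h4
    exact (h.act_iff hgP hpq hne hgp hv).1 h3
  have hv1 : v = 1 := by
    refine eq_one_of_const M h.hm1 hv fun p q hpq _ => ?_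
    obtain ⟨y₀, hy₀⟩ := SwB.exists_ne_zero h.hm1
    have key2 : ∀ p : Pt k m, E M v p = E M v (p.1, 0) := by
      intro p
      by_cases hp0 : p.2 = 0
      · rw [show ((p.1, 0) : Pt k m) = p from Prod.ext rfl hp0.symm]
      · have hne : p ≠ (p.1, 0) := fun e => hp0 (by rw [e])
        have hc₀ : ((l, y₀) : Pt k m).2 ≠ 0 := hy₀
        have hν₀ : (ν (l, y₀)).2 ≠ 0 := fun e => hc₀ (F.nnz.1 e)
        have h0 : ∀ {c : Pt k m}, c.2 ≠ 0 → p ≠ c → p ≠ μ c → E M (pr M c (μ c)) p = E M (pr M c (μ c)) (p.1, 0) := by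
          intro c hc h1 h2
          rw [E_pr_of_ne M (F.mfst c).symm h1 h2, E_pr_of_ne M (F.mfst c).symm (fun e => hc (by rw [← e]))
            (fun e => hc (F.mnz.1 (by rw [← e])))]
        by_cases h1 : p = (l, y₀) ∨ p = μ (l, y₀)
        · refine key rfl hne hν₀ (by rw [F.nfst]; exact hl) (h0 hν₀ ?_ ?_)
          · rcases h1 with e | e
            · rw [e]; exact (F.nne _ hc₀).symm
            · rw [e]; exact (F.nmu _ hc₀).symm
          · rcases h1 with e | e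
            · rw [e]
              intro e1
              have e2 := congrArg μ e1
              rw [F.msq] at e2
              exact F.nmu _ hc₀ e2.symm
            · rw [e]; exact fun e1 => F.nne _ hc₀ (μ.injective e1).symm
        · push Not at h1
          exact key rfl hne hc₀ hl (h0 hc₀ h1.1 h1.2)
    rw [key2 p, key2 q, hpq]
  rw [hτ, hv1, one_mul]
  exact hδ

include zv F hm2 hx hd hwO hw1 hw2 hwσ in
/-- `w` centralises the `(0 c)` outside of the summand `x.1` -/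
theorem zero_duad {c : Pt k m} (hc : c.2 ≠ 0) (hcx : c.1 ≠ x.1) : w * pr M (c.1, 0) c = pr M (c.1, 0) c * w := by
  classical
  have hτ := tau_DD h zv F hm2 hx hd hwO hw1 hw2 hwσ hcx
  have hμ0 : (μ c).2 ≠ 0 := fun e => hc (F.mnz.1 e)
  -- the transposition `(μ c, 0)`
  have hfst : (μ c).1 = ((c.1, 0) : Pt k m).1 := F.mfst c
  obtain ⟨g, hg, hgp⟩ := Ht.RD.exists_swapP h.toSit hfst
  have hgf : ∀ p, (pp M g p).1 = p.1 := fun p => by rw [hgp]; exact swap_fst' h.toSit hfst p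
  have hgσ : g * (sg h.toSit x.1).val = (sg h.toSit x.1).val * g := by
    refine comm_swap h.toSit hg hgp (sg_mem h.toSit x.1) ?_
    rw [E_sg, E_sg, if_neg (by rw [F.mfst]; exact hcx), if_neg hcx]
  have hgK := Ht.RD.mem_K h.toSit hd hg hgf hgσ
  have hgτ := (mem_DD.1 hτ).2 g hg hgf
  obtain ⟨κ, hκ⟩ : ∃ κ, κ = w⁻¹ * (g⁻¹ * w * g) := ⟨_, rfl⟩
  have hκO : κ ∈ qz ((sg h.toSit x.1).val * d) := by
    rw [hκ]
    have h1 := conj_mem (le_normalizer_o2 _) (inv_mem hgK) hwO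
    rw [inv_inv] at h1
    exact mul_mem (inv_mem hwO) h1
  have hκσ : κ * (sg h.toSit x.1).val = (sg h.toSit x.1).val * κ := by
    have h1 : g⁻¹ * (w * (sg h.toSit x.1).val * w⁻¹) * g = w * (sg h.toSit x.1).val * w⁻¹ := by
      rw [mul_assoc, ← hgτ]; group
    have h2 : g⁻¹ * w * g * (sg h.toSit x.1).val * (g⁻¹ * w * g)⁻¹ = w * (sg h.toSit x.1).val * w⁻¹ := by
      calc g⁻¹ * w * g * (sg h.toSit x.1).val * (g⁻¹ * w * g)⁻¹ =
          g⁻¹ * w * (g * (sg h.toSit x.1).val * g⁻¹) * w⁻¹ * g := by group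
        _ = g⁻¹ * (w * (sg h.toSit x.1).val * w⁻¹) * g := by rw [conj_of_comm hgσ]; group
        _ = w * (sg h.toSit x.1).val * w⁻¹ := h1
    apply comm_of_conj
    calc κ * (sg h.toSit x.1).val * κ⁻¹ = w⁻¹ * (g⁻¹ * w * g * (sg h.toSit x.1).val * (g⁻¹ * w * g)⁻¹) * w := by
          rw [hκ]; group
      _ = (sg h.toSit x.1).val := by rw [h2]; group
  have hκ0 : κ ∈ S0 h.toSit := hOC h zv hd ⟨hκO, mem_centralizer_singleton_iff.2 hκσ⟩
  have hκP := h.SP (S0_le h.toSit hκ0)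
  have h3 : κ * pr M c (μ c) = pr M c (μ c) * κ :=
    h.comm_pr hκP (F.mfst c).symm (Or.inl ⟨act_out' h hd hκO hκ0 hcx,
      act_out' h hd hκO hκ0 (by rw [F.mfst]; exact hcx)⟩)
  have h4 := duad h zv F hd hwO hw2 hc hcx
  have h5 : g⁻¹ * w * g * pr M c (μ c) = pr M c (μ c) * (g⁻¹ * w * g) := by
    have e : g⁻¹ * w * g = w * κ := by rw [hκ]; group
    rw [e]
    calc w * κ * pr M c (μ c) = w * (κ * pr M c (μ c)) := by group
      _ = w * pr M c (μ c) * κ := by rw [h3]; group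
      _ = pr M c (μ c) * (w * κ) := by rw [h4]; group
  have h6 : g * pr M c (μ c) * g⁻¹ = pr M (c.1, 0) c := by
    rw [h.conj_pr hg (F.mfst c).symm, hgp, Equiv.swap_apply_left,
      Equiv.swap_apply_of_ne_of_ne (F.mne c hc).symm (fun e => hc (by rw [e])),
      pr_comm M (p := c) (q := (c.1, 0)) rfl]
  rw [← h6]
  calc w * (g * pr M c (μ c) * g⁻¹) = g * (g⁻¹ * w * g * pr M c (μ c)) * g⁻¹ := by group
    _ = g * pr M c (μ c) * g⁻¹ * w := by rw [h5]; group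

include F hx hd in
/-- the elements of `S` fixing the summand `x.1` commute with `σ d` -/
theorem S1_comm (hdT : ∀ s ∈ (S : Subgroup G), s * pr M x (μ x) = pr M x (μ x) * s → s * d = d * s) {s : G}
    (hs : s ∈ (S : Subgroup G)) (hsx : (pp M s x).1 = x.1) :
    s * d = d * s ∧ s * ((sg h.toSit x.1).val * d) = (sg h.toSit x.1).val * d * s := by
  have hsx0 : (pp M s x).2 ≠ 0 := fun e => hx ((h.snd hs).1 e)
  obtain ⟨t, ht, h1, -⟩ := exists_in h.toSit hsx hsx0 hx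
  have htS := S0_le h.toSit ht
  have h2 : pp M (t * s) x = x := by
    rw [h.mul (h.SP htS) (h.SP hs), Equiv.Perm.mul_apply, h1]
  have htsS : t * s ∈ (S : Subgroup G) := mul_mem htS hs
  have h3 : t * s * pr M x (μ x) = pr M x (μ x) * (t * s) := by
    apply comm_of_conj
    rw [h.conj_pr (h.SP htsS) (F.mfst x).symm, F.meqv _ htsS, h2]
  have h4 := hdT _ htsS h3
  have h5 := Ht.RD.S0_DD h.toSit ht hd
  have h6 : s * d = d * s := by
    calc s * d = t⁻¹ * (t * s * d) := by group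
      _ = t⁻¹ * (d * t) * s := by rw [h4]; group
      _ = d * s := by rw [← h5]; group
  have h7 := conj_sg h.toSit hs x
  rw [hsx] at h7
  refine ⟨h6, ?_⟩
  calc s * ((sg h.toSit x.1).val * d) = s * (sg h.toSit x.1).val * s⁻¹ * (s * d) := by group
    _ = (sg h.toSit x.1).val * d * s := by rw [h7, h6]; group

include zv F hm2 hx hd hwO hw1 hw2 hwσ in
/-- `w` commutes with the conjugates of `d` -/
theorem comm_ds (hsig : ∀ g : G, g * pr M x (μ x) = pr M x (μ x) * g →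
      g * pr M x (x.1, 0) = pr M x (x.1, 0) * g →
      ((sg h.toSit x.1).val * pr M x (μ x) * d)⁻¹ * (g * ((sg h.toSit x.1).val * pr M x (μ x) * d) * g⁻¹) = 1 ∨
      ((sg h.toSit x.1).val * pr M x (μ x) * d)⁻¹ * (g * ((sg h.toSit x.1).val * pr M x (μ x) * d) * g⁻¹) =
        pr M x (μ x))
    {s : G} (hs : s ∈ (S : Subgroup G)) (hsx : (pp M s x).1 ≠ x.1) :
    w * (s * d * s⁻¹) = s * d * s⁻¹ * w ∧
      w * (s * ((sg h.toSit x.1).val * d) * s⁻¹) = s * ((sg h.toSit x.1).val * d) * s⁻¹ * w := by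
  classical
  obtain ⟨c, hc⟩ : ∃ c, c = pp M s x := ⟨_, rfl⟩
  have hcx : c.1 ≠ x.1 := by rw [hc]; exact hsx
  have hc0 : c.2 ≠ 0 := fun e => hx ((h.snd hs).1 (by rw [← hc]; exact e))
  have hν0 : (ν c).2 ≠ 0 := fun e => hc0 (F.nnz.1 e)
  have hsP := h.SP hs
  have hsn : s * pr M x (μ x) * s⁻¹ = pr M c (μ c) := by
    rw [h.conj_pr hsP (F.mfst x).symm, F.meqv _ hs, ← hc]
  have hse : s * pr M x (x.1, 0) * s⁻¹ = pr M (c.1, 0) c := by
    rw [h.conj_pr hsP (p := x) (q := (x.1, 0)) rfl, pr_comm M (h.fst hsP (p := x) (q := (x.1, 0)) rfl)]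
    have e : pp M s (x.1, 0) = (c.1, 0) := by
      refine Prod.ext ?_ ((h.snd hs).2 rfl)
      rw [hc]
      exact h.fst hsP rfl
    rw [e, ← hc]
  have hsσ : s * (sg h.toSit x.1).val * s⁻¹ = (sg h.toSit c.1).val := by rw [conj_sg h.toSit hs x, ← hc]
  have w1 := duad h zv F hd hwO hw2 hc0 hcx
  have w2 := duad h zv F hd hwO hw2 hν0 (by rw [F.nfst]; exact hcx)
  have w3 := zero_duad h zv F hm2 hx hd hwO hw1 hw2 hwσ hc0 hcx
  have w4 : w * (sg h.toSit c.1).val = (sg h.toSit c.1).val * w := by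
    rw [sg_eq h.toSit F hm2 hc0]
    calc w * (pr M c (μ c) * pr M (ν c) (μ (ν c))) = w * pr M c (μ c) * pr M (ν c) (μ (ν c)) := by group
      _ = pr M c (μ c) * (w * pr M (ν c) (μ (ν c))) := by rw [w1]; group
      _ = pr M c (μ c) * pr M (ν c) (μ (ν c)) * w := by rw [w2]; group
  obtain ⟨D, hD⟩ : ∃ D, D = s * d * s⁻¹ := ⟨_, rfl⟩
  have hDD : D ∈ DD M := by rw [hD]; exact DD_conj h.toSit hsP hd
  obtain ⟨C, hC⟩ : ∃ C, C = (sg h.toSit c.1).val * pr M c (μ c) * D := ⟨_, rfl⟩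
  have hsC : s * ((sg h.toSit x.1).val * pr M x (μ x) * d) * s⁻¹ = C := by
    rw [hC, ← hsσ, ← hsn, hD]; group
  have h1 := hsig (s⁻¹ * w * s) (by
    have e : pr M x (μ x) = s⁻¹ * pr M c (μ c) * s := by rw [← hsn]; group
    rw [e]
    calc s⁻¹ * w * s * (s⁻¹ * pr M c (μ c) * s) = s⁻¹ * (w * pr M c (μ c)) * s := by group
      _ = s⁻¹ * pr M c (μ c) * s * (s⁻¹ * w * s) := by rw [w1]; group) (by
    have e : pr M x (x.1, 0) = s⁻¹ * pr M (c.1, 0) c * s := by rw [← hse]; group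
    rw [e]
    calc s⁻¹ * w * s * (s⁻¹ * pr M (c.1, 0) c * s) = s⁻¹ * (w * pr M (c.1, 0) c) * s := by group
      _ = s⁻¹ * pr M (c.1, 0) c * s * (s⁻¹ * w * s) := by rw [w3]; group)
  obtain ⟨c₀, hc₀⟩ : ∃ c₀, c₀ = (sg h.toSit x.1).val * pr M x (μ x) * d := ⟨_, rfl⟩
  rw [← hc₀] at h1 hsC
  have h2 : s * (c₀⁻¹ * (s⁻¹ * w * s * c₀ * (s⁻¹ * w * s)⁻¹)) * s⁻¹ = C⁻¹ * (w * C * w⁻¹) := by
    rw [← hsC]; group
  have h3 : C⁻¹ * (w * C * w⁻¹) = D⁻¹ * (w * D * w⁻¹) := by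
    have e1 : w * C * w⁻¹ = (sg h.toSit c.1).val * pr M c (μ c) * (w * D * w⁻¹) := by
      calc w * C * w⁻¹ = w * (sg h.toSit c.1).val * pr M c (μ c) * D * w⁻¹ := by rw [hC]; group
        _ = (sg h.toSit c.1).val * (w * pr M c (μ c)) * D * w⁻¹ := by rw [w4]; group
        _ = (sg h.toSit c.1).val * pr M c (μ c) * (w * D * w⁻¹) := by rw [w1]; group
    rw [e1, hC]; group
  have h4 : D⁻¹ * (w * D * w⁻¹) = 1 ∨ D⁻¹ * (w * D * w⁻¹) = pr M c (μ c) := by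
    rw [← h3, ← h2]
    rcases h1 with e | e
    · left; rw [e]; group
    · right; rw [e, hsn]
  -- `D⁻¹ D^w` is centralised by `S0`
  have h5 : ∀ t ∈ S0 h.toSit, t * (D⁻¹ * (w * D * w⁻¹)) = D⁻¹ * (w * D * w⁻¹) * t := by
    intro t ht
    have f1 := Ht.RD.S0_DD h.toSit ht (inv_mem hDD)
    have f2 := Ht.RD.S0_DD h.toSit (hw2 t ht) hDD
    calc t * (D⁻¹ * (w * D * w⁻¹)) = t * D⁻¹ * (w * D * w⁻¹) := by group
      _ = D⁻¹ * (w * (w⁻¹ * t * w * D) * w⁻¹) := by rw [f1]; group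
      _ = D⁻¹ * (w * D * w⁻¹) * t := by rw [f2]; group
  have h6 : w * D = D * w := by
    rcases h4 with e | e
    · exact mul_inv_eq_iff_eq_mul.1 (inv_mul_eq_one.1 e).symm
    · exfalso
      obtain ⟨t, ht, g1, -⟩ := exists_in h.toSit (F.nfst c).symm hc0 hν0
      have g2 := h5 t ht
      rw [e] at g2
      have g3 := (h.comm_iff (h.SP (S0_le h.toSit ht)) (pr_mem M c (μ c))).1 g2 c
      rw [g1, E_pr_left M (F.mfst c).symm (F.mne c hc0).symm,
        E_pr_of_ne M (F.mfst c).symm (F.nne c hc0) (F.nmu c hc0)] at g3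
      exact zero_ne_one g3
  rw [← hD]
  refine ⟨h6, ?_⟩
  have e : s * ((sg h.toSit x.1).val * d) * s⁻¹ = (sg h.toSit c.1).val * D := by rw [← hsσ, hD]; group
  rw [e]
  calc w * ((sg h.toSit c.1).val * D) = w * (sg h.toSit c.1).val * D := by group
    _ = (sg h.toSit c.1).val * (w * D) := by rw [w4]; group
    _ = (sg h.toSit c.1).val * D * w := by rw [h6]; group

/-- a 2-subgroup normal in a subgroup normalised by `S` lies in `S` -/
theorem le_S_of {Y C : Subgroup G} (hY : IsPGroup 2 Y) (hYC : Y ≤ C) (hn : C ≤ normalizer (Y : Set G))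
    (hS : (S : Subgroup G) ≤ normalizer (C : Set G)) : Y ≤ (S : Subgroup G) := by
  have hp : Fact (Nat.Prime 2) := ⟨Nat.prime_two⟩
  have h1 : Y ≤ o2 C := MinSimple.VModule.le_o2 hYC hY hn
  have h3 : IsPGroup 2 ((S : Subgroup G) ⊔ o2 C : Subgroup G) :=
    IsPGroup.to_sup_of_normal_right' S.isPGroup' (o2_isPGroup C) (hS.trans (norm_o2 le_rfl))
  rw [← S.is_maximal' h3 le_sup_left]
  exact h1.trans le_sup_right

end main

section final

variable [Finite G] (h : SD S P V M) (zv : zc (o2 P) ≤ V ⊔ DD M) {μ ν : Equiv.Perm (Pt k m)} (F : Fours M μ ν)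
  (hm2 : m = 2) {x : Pt k m} (hx : x.2 ≠ 0) {d : G} (hd : d ∈ DD M)
  (hdT : ∀ s ∈ (S : Subgroup G), s * pr M x (μ x) = pr M x (μ x) * s → s * d = d * s)
  (hsig : ∀ g : G, g * pr M x (μ x) = pr M x (μ x) * g → g * pr M x (x.1, 0) = pr M x (x.1, 0) * g →
      ((sg h.toSit x.1).val * pr M x (μ x) * d)⁻¹ * (g * ((sg h.toSit x.1).val * pr M x (μ x) * d) * g⁻¹) = 1 ∨
      ((sg h.toSit x.1).val * pr M x (μ x) * d)⁻¹ * (g * ((sg h.toSit x.1).val * pr M x (μ x) * d) * g⁻¹) =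
        pr M x (μ x))

include zv F hm2 hx hd hdT hsig

/-- **`O₂(C_G(σ_i d)) ≤ S0`**, `m = 2` -/
theorem o2_le_S0 : qz ((sg h.toSit x.1).val * d) ≤ S0 h.toSit := by
  classical
  by_contra hO
  obtain ⟨w, hwO, hw0, hw1, hw2⟩ := exists_w h hd hO
  have hwσ : w * (sg h.toSit x.1).val ≠ (sg h.toSit x.1).val * w := fun e =>
    hw0 (hOC h zv hd ⟨hwO, mem_centralizer_singleton_iff.2 e⟩)
  -- the conjugates of `y`
  have hwy : w * ((sg h.toSit x.1).val * d) = (sg h.toSit x.1).val * d * w :=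
    mem_centralizer_singleton_iff.1 (o2_le _ hwO)
  have hws : ∀ s ∈ (S : Subgroup G),
      w * (s * ((sg h.toSit x.1).val * d) * s⁻¹) = s * ((sg h.toSit x.1).val * d) * s⁻¹ * w := by
    intro s hs
    by_cases hsx : (pp M s x).1 = x.1
    · have h1 := (S1_comm h F hx hd hdT hs hsx).2
      rw [conj_of_comm h1]
      exact hwy
    · exact (comm_ds h zv F hm2 hx hd hwO hw1 hw2 hwσ hsig hs hsx).2
  obtain ⟨C, hC⟩ : ∃ C : Subgroup G, C = centralizer {z : G | ∃ s ∈ (S : Subgroup G),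
      z = s * ((sg h.toSit x.1).val * d) * s⁻¹} := ⟨_, rfl⟩
  have hwC : w ∈ C := by
    rw [hC, mem_centralizer_iff]
    rintro z ⟨s, hs, rfl⟩
    exact (hws s hs).symm
  have hCle : C ≤ cz ((sg h.toSit x.1).val * d) := by
    intro g hg
    rw [hC, mem_centralizer_iff] at hg
    exact mem_cent.2 (hg _ ⟨1, one_mem _, by group⟩).symm
  have hSC : (S : Subgroup G) ≤ normalizer (C : Set G) := by
    rw [hC]
    apply norm_of
    intro t ht c hc
    rw [mem_centralizer_iff] at hc ⊢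
    rintro z ⟨s, hs, rfl⟩
    have h1 := hc _ ⟨t⁻¹ * s, mul_mem (inv_mem ht) hs, rfl⟩
    calc s * ((sg h.toSit x.1).val * d) * s⁻¹ * (t * c * t⁻¹) =
        t * (t⁻¹ * s * ((sg h.toSit x.1).val * d) * (t⁻¹ * s)⁻¹ * c) * t⁻¹ := by group
      _ = t * c * t⁻¹ * (s * ((sg h.toSit x.1).val * d) * s⁻¹) := by rw [h1]; group
  have hwS : w ∈ (S : Subgroup G) := by
    refine le_S_of (Y := qz ((sg h.toSit x.1).val * d) ⊓ C) (C := C) h ((o2_isPGroup _).to_le inf_le_left)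
      inf_le_right ?_ hSC ⟨hwO, hwC⟩
    apply norm_of
    rintro c hc z ⟨hz1, hz2⟩
    exact ⟨conj_mem (le_normalizer_o2 _) (hCle hc) hz1, C.mul_mem (C.mul_mem hc hz2) (C.inv_mem hc)⟩
  by_cases hk : ∃ l : Fin k, l ≠ x.1
  · obtain ⟨l, hl⟩ := hk
    have h1 := tau_DD h zv F hm2 hx hd hwO hw1 hw2 hwσ hl
    have h2 : w * (sg h.toSit x.1).val * w⁻¹ ∈ V := h.amb.conj_mem (h.SP hwS) (sg_mem h.toSit x.1)
    exact tau_ne_one h hx (eq_one_of_DD h.toSit h2 h1)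
  · push Not at hk
    exact hw0 ((mem_S0 h.toSit).2 ⟨hwS, fun p => by rw [hk (pp M w p).1, hk p.1]⟩)

end final

end Cfsg.Agent.Omega.IId.SymWrD.AlphaA

end
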