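import Cfsg.Agent.Mrg.Omega.IId.SymWrD.Base
import Cfsg.Agent.Mrg.Omega.IId.Big.SylB

section


/-!
# II.d, `SwBig`: `T_n = C_S(n)` is Sylow in `C_G(n)` (THEOREM SYL_n, bb OMEGA #19775, helper666), I: `Ω₁Z(Q) = V`

`V` the sum of `k ≥ 1` even-subset modules of degree `2 ^ m + 1`, `m ≥ 2`; `Q = O₂(P) = C_S(V)`; `pr M p q` the
duads; `qz n = O₂(C_G(n))`, `KK n = {g ∈ C_G(n) : [O₂(C_G(n)), g] ≤ ⟨n⟩}`.

* `SN` : the hypotheses (THEOREM L and a conjugate partner for all duads);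
* `SN.zv` : **(ZV)** : `Ω₁Z(Q) = V`.
-/

set_option autoImplicit false
set_option linter.unusedSectionVars false

namespace Cfsg.Agent.Omega.IId.SymWrD

open Subgroup Pointwise Cfsg Cfsg.Agent.ZN Cfsg.Agent.Omega.MinPar Cfsg.Agent.Omega.FFThm
open Cfsg.Agent.Omega.Half.SymA (Pt E Mv pm)
open Cfsg.Agent.MinSimple.VModule (mem_zc zc_le zc_comm zc_sq zc_le_zl le_normalizer_o2 o2_isPGroup o2_le
  normalizer_le_normalizer_zc le_normalizer_zl)
open Triangle (KK KK_conj KK_le_o2 mem_cent mem_KK mem_zpowers_iff_of_sq cent_conj o2_cent_conj)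
open Big (cz qz conj_mem norm_of conj_of_comm comm_of_conj le_o2_of)
open Big.Syl (YY mem_YY YY_le exists_mem_zc)

universe u

variable {G : Type u} [Group G] {P V : Subgroup G} {k m : ℕ}

/-- **The hypotheses of THEOREM SYL_n.** -/
structure SD [Finite G] (S : Sylow 2 G) (P V : Subgroup G) {k m : ℕ} (M : SymK (S : Subgroup G) P V ⊥ k m) :
    Prop extends Sit S P V M where
  c2 : IsCharacteristicTwoType G
  QP : ∀ p q : Pt k m, p.1 = q.1 → p ≠ q → qz (pr M p q) ≤ P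
  Qpp : ∀ p q : Pt k m, p.1 = q.1 → p ≠ q → ∀ x ∈ qz (pr M p q), pp M x = 1 ∨ pp M x = Equiv.swap p q
  VQ : ∀ p q : Pt k m, p.1 = q.1 → p ≠ q → V ≤ qz (pr M p q)
  par : ∀ p q : Pt k m, p.1 = q.1 → p ≠ q → ∃ w ∈ KK (pr M p q), pp M w = Equiv.swap p q

/-! ### Tools -/

section tools

variable {S : Subgroup G} (M : SymK S P V ⊥ k m)

theorem pr_ne_one {p q : Pt k m} (h : p.1 = q.1) (hne : p ≠ q) : pr M p q ≠ 1 := by
  intro h0
  have h1 := E_pr_left M h hne
  rw [h0, Half.SymA.E_one] at h1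
  exact zero_ne_one h1

theorem swap_fst {a b : Pt k m} (hab : a.1 = b.1) (r : Pt k m) : (Equiv.swap a b r).1 = r.1 := by
  rcases eq_or_ne r a with rfl | hr
  · rw [Equiv.swap_apply_left, hab]
  · rcases eq_or_ne r b with rfl | hr'
    · rw [Equiv.swap_apply_right, hab]
    · rw [Equiv.swap_apply_of_ne_of_ne hr hr']

theorem E_swap {v : G} {a b : Pt k m} (hab : E M v a = E M v b) (r : Pt k m) :
    E M v (Equiv.swap a b r) = E M v r := by
  rcases eq_or_ne r a with rfl | hr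
  · rw [Equiv.swap_apply_left, hab]
  · rcases eq_or_ne r b with rfl | hr'
    · rw [Equiv.swap_apply_right, hab]
    · rw [Equiv.swap_apply_of_ne_of_ne hr hr']

/-- a point of the summand `l` outside a set of at most 4 points -/
theorem exists_pt4 (hm : 2 ≤ m) (l : Fin k) (s : Finset (Pt k m)) (hs : s.card ≤ 4) :
    ∃ p : Pt k m, p.1 = l ∧ p ∉ s := by
  classical
  by_contra hcon
  push Not at hcon
  have h1 : (Finset.univ : Finset (Fin (2 ^ m + 1))).image (fun x => ((l, x) : Pt k m)) ⊆ s := by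
    intro p hp
    obtain ⟨x, -, rfl⟩ := Finset.mem_image.1 hp
    exact hcon _ rfl
  have h2 := Finset.card_le_card h1
  rw [Finset.card_image_of_injective _ (fun x y hxy => (Prod.mk.inj hxy).2), Finset.card_univ, Fintype.card_fin] at h2
  have h3 : 2 ^ 2 ≤ 2 ^ m := Nat.pow_le_pow_right (by norm_num) hm
  omega

/-- an element of `V` which is constant on all pairs of the summands is trivial -/
theorem eq_one_of_const (hm : 1 ≤ m) {v : G} (hv : v ∈ V) (h : ∀ p q : Pt k m, p.1 = q.1 → p ≠ q → E M v p = E M v q) :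
    v = 1 := by
  refine Half.SymA.eq_one M hv fun p => ?_
  have h1 : ∀ x : Fin (2 ^ m + 1), E M v (p.1, x) = E M v p := by
    intro x
    by_cases h0 : ((p.1, x) : Pt k m) = p
    · rw [h0]
    · exact h _ _ rfl h0
  have h2 := Half.SymA.even M hv p.1
  rw [Finset.sum_congr rfl fun x _ => h1 x, Finset.sum_const, Finset.card_univ, Fintype.card_fin, nsmul_eq_mul,
    Nat.cast_add, Nat.cast_one] at h2
  have h6 : ((2 ^ m : ℕ) : ZMod 2) = 0 := by
    rw [ZMod.natCast_eq_zero_iff]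
    exact dvd_pow_self 2 (by omega)
  rwa [h6, zero_add, one_mul] at h2

end tools

namespace SD

variable [Finite G] {S : Sylow 2 G} {M : SymK (S : Subgroup G) P V ⊥ k m} (h : SD S P V M)
include h

theorem PN : P ≤ normalizer (V : Set G) := by
  apply norm_of
  intro a ha b hb
  exact h.amb.conj_mem ha hb

/-- the action of an element inducing a transposition -/
theorem act {w : G} (hw : w ∈ P) {p q : Pt k m} (hpq : p.1 = q.1) (hne : p ≠ q) (hwp : pp M w = Equiv.swap p q)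
    {v : G} (hv : v ∈ V) : (E M v p = E M v q → w * v * w⁻¹ = v) ∧ (E M v p ≠ E M v q → w * v * w⁻¹ = pr M p q * v) := by
  classical
  have h1 : ∀ r, E M (w * v * w⁻¹) r = E M v (Equiv.swap p q r) := by
    intro r
    rw [E_conj' hw hv, hwp, Equiv.swap_inv]
  constructor
  · intro h2
    refine Half.SymA.inj M (h.amb.conj_mem hw hv) hv fun r => ?_
    rw [h1, E_swap M h2]
  · intro h2
    refine Half.SymA.inj M (h.amb.conj_mem hw hv) (mul_mem (pr_mem M p q) hv) fun r => ?_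
    rw [h1, Half.SymA.E_mul M (pr_mem M p q) hv, E_pr M hpq]
    have h3 : ∀ a b : ZMod 2, a ≠ b → a = 1 + b := by decide
    rcases eq_or_ne r p with rfl | hr
    · rw [Equiv.swap_apply_left, if_pos rfl, if_neg hne, add_zero]
      exact h3 _ _ h2.symm
    · rcases eq_or_ne r q with rfl | hr'
      · rw [Equiv.swap_apply_right, if_neg hne.symm, if_pos rfl, zero_add]
        exact h3 _ _ h2
      · rw [Equiv.swap_apply_of_ne_of_ne hr hr', if_neg hr, if_neg hr', add_zero, zero_add]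

theorem act_iff {w : G} (hw : w ∈ P) {p q : Pt k m} (hpq : p.1 = q.1) (hne : p ≠ q) (hwp : pp M w = Equiv.swap p q)
    {v : G} (hv : v ∈ V) : w * v = v * w ↔ E M v p = E M v q := by
  constructor
  · intro h1
    by_contra h2
    have h3 := (h.act hw hpq hne hwp hv).2 h2
    rw [conj_of_comm h1] at h3
    exact pr_ne_one M hpq hne (mul_eq_right.1 h3.symm)
  · intro h1
    exact comm_of_conj ((h.act hw hpq hne hwp hv).1 h1)

/-! ### `O₂(C_G(n))` -/

theorem pr_sq (p q : Pt k m) : pr M p q * pr M p q = 1 := h.Vsq (pr_mem M p q)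

theorem cz_c2 {p q : Pt k m} (hpq : p.1 = q.1) (hne : p ≠ q) :
    cz (pr M p q) ⊓ centralizer (qz (pr M p q) : Set G) ≤ qz (pr M p q) :=
  MinSimple.Basic.char2_centralizer h.c2 (by rw [pow_two]; exact h.pr_sq p q) (pr_ne_one M hpq hne)

theorem KK_le {p q : Pt k m} (hpq : p.1 = q.1) (hne : p ≠ q) : KK (pr M p q) ≤ qz (pr M p q) :=
  KK_le_o2 (h.pr_sq p q) (h.cz_c2 hpq hne)

/-- a 2-subgroup of `C_G(V)` normal in `C_G(V)` lies in `O₂(P)` -/
theorem NQ {N : Subgroup G} (hN : IsPGroup 2 N) (hNC : N ≤ centralizer (V : Set G))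
    (hn : centralizer (V : Set G) ≤ normalizer (N : Set G)) : N ≤ o2 P := by
  have hp : Fact (Nat.Prime 2) := ⟨Nat.prime_two⟩
  set C : Subgroup G := centralizer (V : Set G) with hC
  have h1 : N ≤ o2 C := MinSimple.VModule.le_o2 hNC hN hn
  have hPC : P ≤ normalizer (C : Set G) := by
    apply norm_of
    intro a ha c hc
    refine mem_centralizer_iff.2 fun v hv => ?_
    have hv' : a⁻¹ * v * a ∈ V := by
      have := h.amb.conj_mem (inv_mem ha) hv
      rwa [inv_inv] at this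
    have h2 := mem_centralizer_iff.1 hc _ hv'
    calc v * (a * c * a⁻¹) = a * ((a⁻¹ * v * a) * c) * a⁻¹ := by group
      _ = a * c * a⁻¹ * v := by rw [h2]; group
  have hPo : P ≤ normalizer (o2 C : Set G) := Big.norm_o2 hPC
  have h2 : o2 C ≤ (S : Subgroup G) := by
    have h3 : IsPGroup 2 ((S : Subgroup G) ⊔ o2 C : Subgroup G) :=
      IsPGroup.to_sup_of_normal_right' S.isPGroup' (o2_isPGroup C) (h.SP.trans hPo)
    rw [← S.is_maximal' h3 le_sup_left]
    exact le_sup_right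
  rw [h.Q_eq]
  exact le_inf (h1.trans h2) (h1.trans (o2_le C))

/-- the centraliser of `V` normalises -/
theorem mem_Q_of {p q : Pt k m} (hpq : p.1 = q.1) (hne : p ≠ q) {x : G} (hx : x ∈ qz (pr M p q))
    (hx1 : pp M x = 1) : x ∈ o2 P := by
  have hxP := h.QP p q hpq hne hx
  have hxV : x ∈ centralizer (V : Set G) := (h.eq_one_iff hxP).1 hx1
  have hCz : centralizer (V : Set G) ≤ cz (pr M p q) :=
    centralizer_le (Set.singleton_subset_iff.2 (pr_mem M p q))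
  refine h.NQ (N := qz (pr M p q) ⊓ centralizer (V : Set G)) ((o2_isPGroup _).to_le inf_le_left) inf_le_right ?_
    ⟨hx, hxV⟩
  apply norm_of
  rintro c hc n ⟨hn, hn2⟩
  exact ⟨conj_mem (le_normalizer_o2 _) (hCz hc) hn,
    (centralizer (V : Set G)).mul_mem ((centralizer (V : Set G)).mul_mem hc hn2) (inv_mem hc)⟩

theorem QcV {x v : G} (hx : x ∈ o2 P) (hv : v ∈ V) : x * v = v * x :=
  ((mem_zc.1 (h.VZ hv)).2.1 x hx)

theorem V_le_Q : V ≤ o2 P := h.VZ.trans (zc_le _)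

/-- the elements of `Q_p` modulo `Q` -/
theorem split {p q : Pt k m} (hpq : p.1 = q.1) (hne : p ≠ q) {w x : G} (hw : w ∈ qz (pr M p q))
    (hwp : pp M w = Equiv.swap p q) (hx : x ∈ qz (pr M p q)) : x ∈ o2 P ∨ w⁻¹ * x ∈ o2 P := by
  rcases h.Qpp p q hpq hne x hx with h1 | h1
  · exact Or.inl (h.mem_Q_of hpq hne hx h1)
  · right
    refine h.mem_Q_of hpq hne (mul_mem (inv_mem hw) hx) ?_
    rw [h.mul (inv_mem (h.QP p q hpq hne hw)) (h.QP p q hpq hne hx), h.inv (h.QP p q hpq hne hw), hwp, h1,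
      inv_mul_cancel]

theorem w_sq {p q : Pt k m} (hpq : p.1 = q.1) (hne : p ≠ q) {w : G} (hw : w ∈ qz (pr M p q))
    (hwp : pp M w = Equiv.swap p q) : w * w ∈ o2 P := by
  refine h.mem_Q_of hpq hne (mul_mem hw hw) ?_
  rw [h.mul (h.QP p q hpq hne hw) (h.QP p q hpq hne hw), hwp, Equiv.swap_mul_self]

/-- `x ∈ P` normalises `O₂(P)` -/
theorem nQ {g x : G} (hg : g ∈ P) (hx : x ∈ o2 P) : g * x * g⁻¹ ∈ o2 P :=
  conj_mem (MinSimple.VModule.le_normalizer_o2 P) hg hx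

theorem nQ' {g x : G} (hg : g ∈ P) (hx : x ∈ o2 P) : g⁻¹ * x * g ∈ o2 P := by
  have := h.nQ (inv_mem hg) hx
  rwa [inv_inv] at this

/-- an involution which centralises `Q` lies in `O₂(C_G(n))` -/
theorem zz_mem_qz {p q : Pt k m} (hpq : p.1 = q.1) (hne : p ≠ q) {z : G} (hzz : z * z = 1)
    (hz : ∀ x ∈ o2 P, x * z = z * x) : z ∈ qz (pr M p q) := by
  obtain ⟨w, hwK, hwp⟩ := h.par p q hpq hne
  have hw := h.KK_le hpq hne hwK
  have hwP := h.QP p q hpq hne hw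
  have hzQ : z ∈ o2 P := h.cQ (mem_centralizer_iff.2 hz)
  obtain ⟨z', hz'⟩ : ∃ z', z' = w * z * w⁻¹ := ⟨_, rfl⟩
  have hz'Q : z' ∈ o2 P := by rw [hz']; exact h.nQ hwP hzQ
  have hz'c : ∀ x ∈ o2 P, x * z' = z' * x := by
    intro x hx
    have h2 := hz _ (h.nQ' hwP hx)
    calc x * z' = w * ((w⁻¹ * x * w) * z) * w⁻¹ := by rw [hz']; group
      _ = z' * x := by rw [h2, hz']; group
  have hww := h.w_sq hpq hne hw hwp
  have hcz : z' * z = z * z' := hz z' hz'Q
  have hcQ : ∀ x ∈ o2 P, x * (z' * z) = z' * z * x := by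
    intro x hx
    calc x * (z' * z) = (x * z') * z := by group
      _ = z' * (x * z) := by rw [hz'c x hx]; group
      _ = z' * z * x := by rw [hz x hx]; group
  have hwc : w * (z' * z) = z' * z * w := by
    apply comm_of_conj
    have h1 : w * w * z * (w * w)⁻¹ = z := conj_of_comm (hz _ hww)
    calc w * (z' * z) * w⁻¹ = (w * w * z * (w * w)⁻¹) * (w * z * w⁻¹) := by rw [hz']; group
      _ = z * z' := by rw [h1, hz']
      _ = z' * z := hcz.symm
  have hcR : ∀ r ∈ qz (pr M p q), r * (z' * z) = z' * z * r := by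
    intro r hr
    rcases h.split hpq hne hw hwp hr with h1 | h1
    · exact hcQ r h1
    · calc r * (z' * z) = w * ((w⁻¹ * r) * (z' * z)) := by group
        _ = w * (z' * z) * (w⁻¹ * r) := by rw [hcQ _ h1]; group
        _ = z' * z * r := by rw [hwc]; group
  apply YY_le (h.cz_c2 hpq hne)
  refine mem_YY.2 ⟨mem_cent.2 (h.QcV hzQ (pr_mem M p q)), fun r hr => ?_, fun r hr hr2 => ?_⟩
  · rcases h.split hpq hne hw hwp hr with h1 | h1
    · have h2 : z * r * z⁻¹ * r⁻¹ = 1 := by rw [← hz r h1]; group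
      rw [h2]
      exact one_mem _
    · have h2 : z * r * z⁻¹ * r⁻¹ = z' * z := by
        have h3 := hz _ (inv_mem h1)
        have hzi : z⁻¹ = z := inv_eq_of_mul_eq_one_left hzz
        calc z * r * z⁻¹ * r⁻¹ = z * w * (w⁻¹ * r) * (z⁻¹ * (w⁻¹ * r)⁻¹) * w⁻¹ := by group
          _ = z * w * (w⁻¹ * r) * ((w⁻¹ * r)⁻¹ * z) * w⁻¹ := by rw [hzi, ← h3]
          _ = z * (w * z * w⁻¹) := by group
          _ = z' * z := by rw [← hz', hcz]
      rw [h2]
      exact mem_centralizer_iff.2 hcR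
  · refine conj_of_comm (hz r ?_).symm
    refine h.mem_Q_of hpq hne hr ((h.eq_one_iff (h.QP p q hpq hne hr)).2 (mem_centralizer_iff.2 fun v hv => ?_))
    exact mem_centralizer_iff.1 hr2 v (h.VQ p q hpq hne hv)

/-- the action of `K_p` on `Q_p` -/
theorem KK_act {p q : Pt k m} {g y : G} (hg : g ∈ KK (pr M p q)) (hy : y ∈ qz (pr M p q)) :
    g * y * g⁻¹ = y ∨ g * y * g⁻¹ = pr M p q * y := by
  rcases (mem_zpowers_iff_of_sq (h.pr_sq p q)).1 ((mem_KK.1 hg).2 y hy) with h1 | h1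
  · left
    exact mul_inv_eq_one.1 h1
  · right
    exact mul_inv_eq_iff_eq_mul.1 h1

end SD

end Cfsg.Agent.Omega.IId.SymWrD

end

section


/-!
# II.d, `SwBig`: `T_n = C_S(n)` is Sylow in `C_G(n)` (bb OMEGA #19775, helper666), II: `Ω₁Z(Q) = V` and LEMMA 1

* `SN.zv` : **(ZV)** : `Ω₁Z(Q) = V`;
* `SN.one` : **LEMMA 1** : `y ∈ Ω₁Z(Q_n)`, `[y, Q] = ⟨a⟩` of order 2 ⇒ `a = n`.
-/

set_option autoImplicit false
set_option linter.unusedSectionVars false

namespace Cfsg.Agent.Omega.IId.SymWrD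

open Subgroup Pointwise Cfsg Cfsg.Agent.ZN Cfsg.Agent.Omega.MinPar Cfsg.Agent.Omega.FFThm
open Cfsg.Agent.Omega.Half.SymA (Pt E Mv pm)
open Cfsg.Agent.MinSimple.VModule (mem_zc zc_le zc_comm zc_sq zc_le_zl le_normalizer_o2 o2_isPGroup o2_le
  normalizer_le_normalizer_zc le_normalizer_zl)
open Triangle (KK KK_conj KK_le_o2 mem_cent mem_KK mem_zpowers_iff_of_sq cent_conj o2_cent_conj)
open Big (cz qz conj_mem norm_of conj_of_comm comm_of_conj le_o2_of)
open Big.Syl (YY mem_YY YY_le exists_mem_zc)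

universe u

variable {G : Type u} [Group G] {P V : Subgroup G} {k m : ℕ}

/-- `x` if `c = 1`, `1` if `c = 0` -/
def sc (c : ZMod 2) (x : G) : G := if c = 1 then x else 1

theorem sc_one (x : G) : sc 1 x = x := if_pos rfl

theorem sc_zero (x : G) : sc 0 x = 1 := if_neg (by decide)

theorem sc_mem {A : Subgroup G} {c : ZMod 2} {x : G} (hx : x ∈ A) : sc c x ∈ A := by
  unfold sc
  split_ifs
  · exact hx
  · exact one_mem _

theorem sc_conj (w : G) (c : ZMod 2) (x : G) : w * sc c x * w⁻¹ = sc c (w * x * w⁻¹) := by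
  unfold sc
  split_ifs
  · rfl
  · group

theorem E_sc {S : Subgroup G} (M : SymK S P V ⊥ k m) (c : ZMod 2) (x : G) (r : Pt k m) :
    E M (sc c x) r = c * E M x r := by
  rcases Half.SymA.zmod2 c with rfl | rfl
  · rw [sc_zero, Half.SymA.E_one, zero_mul]
  · rw [sc_one, one_mul]

namespace SD

variable [Finite G] {S : Sylow 2 G} {M : SymK (S : Subgroup G) P V ⊥ k m} (h : SD S P V M)
include h

open scoped Classical in
/-- `1` if `K_{p q}` moves `z` -/
noncomputable def aa' (M : SymK (S : Subgroup G) P V ⊥ k m) (z : G) (p q : Pt k m) : ZMod 2 :=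
  if ∃ w ∈ KK (pr M p q), pp M w = Equiv.swap p q ∧ w * z * w⁻¹ ≠ z then 1 else 0

omit h in
theorem aa'_symm (z : G) {p q : Pt k m} (hpq : p.1 = q.1) : aa' M z p q = aa' M z q p := by
  unfold aa'
  rw [pr_comm M hpq, Equiv.swap_comm]

theorem aa'_spec {z : G} (hzz : z * z = 1) (hz : ∀ x ∈ o2 P, x * z = z * x) {p q : Pt k m} (hpq : p.1 = q.1)
    (hne : p ≠ q) {w : G} (hw : w ∈ KK (pr M p q)) (hwp : pp M w = Equiv.swap p q) :
    w * z * w⁻¹ = sc (aa' M z p q) (pr M p q) * z := by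
  have hact := fun w (hw : w ∈ KK (pr M p q)) => h.KK_act hw (h.zz_mem_qz hpq hne hzz hz)
  unfold aa'
  by_cases h1 : ∃ w ∈ KK (pr M p q), pp M w = Equiv.swap p q ∧ w * z * w⁻¹ ≠ z
  · rw [if_pos h1, sc_one]
    obtain ⟨w', hw', hwp', hmv⟩ := h1
    have h2 := (hact w' hw').resolve_left hmv
    have hP := h.QP p q hpq hne (h.KK_le hpq hne hw)
    have hP' := h.QP p q hpq hne (h.KK_le hpq hne hw')
    have h3 : w'⁻¹ * w ∈ o2 P := by
      refine h.mem_Q_of hpq hne (mul_mem (inv_mem (h.KK_le hpq hne hw')) (h.KK_le hpq hne hw)) ?_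
      rw [h.mul (inv_mem hP') hP, h.inv hP', hwp, hwp', inv_mul_cancel]
    calc w * z * w⁻¹ = w' * ((w'⁻¹ * w) * z * (w'⁻¹ * w)⁻¹) * w'⁻¹ := by group
      _ = pr M p q * z := by rw [conj_of_comm (hz _ h3), h2]
  · rw [if_neg h1, sc_zero, one_mul]
    by_contra h2
    exact h1 ⟨w, hw, hwp, h2⟩

/-- the cocycle rule -/
theorem aa'_add {z : G} (hzz : z * z = 1) (hz : ∀ x ∈ o2 P, x * z = z * x) {p q r : Pt k m} (hpq : p.1 = q.1)
    (hqr : q.1 = r.1) (h1 : p ≠ q) (h2 : q ≠ r) (h3 : p ≠ r) :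
    aa' M z p r = aa' M z p q + aa' M z q r := by
  obtain ⟨w₁, hw₁, hp₁⟩ := h.par p q hpq h1
  obtain ⟨w₂, hw₂, hp₂⟩ := h.par q r hqr h2
  have hP₁ := h.QP p q hpq h1 (h.KK_le hpq h1 hw₁)
  have hP₂ := h.QP q r hqr h2 (h.KK_le hqr h2 hw₂)
  have e₁ := h.aa'_spec hzz hz hpq h1 hw₁ hp₁
  have e₂ := h.aa'_spec hzz hz hqr h2 hw₂ hp₂
  set a₁ := aa' M z p q with ha₁
  set a₂ := aa' M z q r with ha₂
  have hpr := hpq.trans hqr
  have c1 : w₂ * pr M p q * w₂⁻¹ = pr M p r := by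
    rw [h.conj_pr hP₂ hpq, hp₂, Equiv.swap_apply_of_ne_of_ne h1 h3, Equiv.swap_apply_left]
  have c2 : w₁ * pr M q r * w₁⁻¹ = pr M p r := by
    rw [h.conj_pr hP₁ hqr, hp₁, Equiv.swap_apply_right, Equiv.swap_apply_of_ne_of_ne h3.symm h2.symm]
  have c3 : w₂ * pr M p r * w₂⁻¹ = pr M p q := by
    rw [h.conj_pr hP₂ hpr, hp₂, Equiv.swap_apply_of_ne_of_ne h1 h3, Equiv.swap_apply_right]
  have c4 : w₂ * pr M q r * w₂⁻¹ = pr M q r := conj_of_comm (mem_KK.1 hw₂).1
  have c5 : w₂⁻¹ * z * w₂ = sc a₂ (pr M q r) * z := by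
    have h4 : w₂ * (sc a₂ (pr M q r) * z) * w₂⁻¹ = z := by
      have h5 : sc a₂ (pr M q r) * sc a₂ (pr M q r) = 1 := h.Vsq (sc_mem (pr_mem M q r))
      calc w₂ * (sc a₂ (pr M q r) * z) * w₂⁻¹ = (w₂ * sc a₂ (pr M q r) * w₂⁻¹) * (w₂ * z * w₂⁻¹) := by group
        _ = (sc a₂ (pr M q r) * sc a₂ (pr M q r)) * z := by rw [sc_conj, c4, e₂]; group
        _ = z := by rw [h5, one_mul]
    calc w₂⁻¹ * z * w₂ = w₂⁻¹ * (w₂ * (sc a₂ (pr M q r) * z) * w₂⁻¹) * w₂ := by rw [h4]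
      _ = sc a₂ (pr M q r) * z := by group
  -- the conjugate
  have hw₃ : w₂ * w₁ * w₂⁻¹ ∈ KK (pr M p r) := by rw [← c1]; exact KK_conj hw₁
  have hp₃ : pp M (w₂ * w₁ * w₂⁻¹) = Equiv.swap p r := by
    rw [h.conj hP₂ hP₁, hp₁, hp₂]
    ext1 x
    have e0 : (Equiv.swap q r)⁻¹ = Equiv.swap q r := Equiv.swap_inv q r
    rw [e0, Equiv.Perm.mul_apply, Equiv.Perm.mul_apply]
    have hv : ∀ x : Pt k m, x = p ∨ x = q ∨ x = r ∨ (x ≠ p ∧ x ≠ q ∧ x ≠ r) := fun x => by tauto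
    rcases hv x with rfl | rfl | rfl | ⟨n1, n2, n3⟩
    · rw [Equiv.swap_apply_of_ne_of_ne h1 h3, Equiv.swap_apply_left, Equiv.swap_apply_left, Equiv.swap_apply_left]
    · rw [Equiv.swap_apply_left, Equiv.swap_apply_of_ne_of_ne h3.symm h2.symm, Equiv.swap_apply_right,
        Equiv.swap_apply_of_ne_of_ne h1.symm h2]
    · rw [Equiv.swap_apply_right, Equiv.swap_apply_right, Equiv.swap_apply_of_ne_of_ne h1 h3,
        Equiv.swap_apply_right]
    · rw [Equiv.swap_apply_of_ne_of_ne n2 n3, Equiv.swap_apply_of_ne_of_ne n1 n2,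
        Equiv.swap_apply_of_ne_of_ne n2 n3, Equiv.swap_apply_of_ne_of_ne n1 n3]
  have e₃ := h.aa'_spec hzz hz hpr h3 hw₃ hp₃
  set a₃ := aa' M z p r with ha₃
  have e₄ : w₂ * w₁ * w₂⁻¹ * z * (w₂ * w₁ * w₂⁻¹)⁻¹ =
      sc a₂ (pr M p q) * sc a₁ (pr M p r) * sc a₂ (pr M q r) * z := by
    calc w₂ * w₁ * w₂⁻¹ * z * (w₂ * w₁ * w₂⁻¹)⁻¹ = w₂ * (w₁ * (w₂⁻¹ * z * w₂) * w₁⁻¹) * w₂⁻¹ := by group
      _ = w₂ * ((w₁ * sc a₂ (pr M q r) * w₁⁻¹) * (w₁ * z * w₁⁻¹)) * w₂⁻¹ := by rw [c5]; group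
      _ = (w₂ * sc a₂ (pr M p r) * w₂⁻¹) * (w₂ * sc a₁ (pr M p q) * w₂⁻¹) * (w₂ * z * w₂⁻¹) := by
          rw [sc_conj, c2, e₁]; group
      _ = sc a₂ (pr M p q) * sc a₁ (pr M p r) * sc a₂ (pr M q r) * z := by
          rw [sc_conj, sc_conj, c3, c1, e₂]; group
  rw [e₃] at e₄
  have e₅ := mul_right_cancel e₄
  have e₆ := congrArg (fun v => E M v p) e₅
  have m1 : sc a₂ (pr M p q) ∈ V := sc_mem (pr_mem M p q)
  have m2 : sc a₁ (pr M p r) ∈ V := sc_mem (pr_mem M p r)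
  have m3 : sc a₂ (pr M q r) ∈ V := sc_mem (pr_mem M q r)
  rw [Half.SymA.E_mul M (mul_mem m1 m2) m3, Half.SymA.E_mul M m1 m2, E_sc, E_sc, E_sc, E_sc, E_pr_left M hpr h3,
    E_pr_left M hpq h1, E_pr_of_ne M hqr h1 h3, mul_one, mul_one, mul_one, mul_zero, add_zero] at e₆
  rw [e₆, add_comm]

/-- an involution `z` centralising `Q` is centralised by all `K_p` modulo `V` -/
theorem exists_mod {z : G} (hzz : z * z = 1) (hz : ∀ x ∈ o2 P, x * z = z * x) :
    ∃ v ∈ V, ∀ p q : Pt k m, p.1 = q.1 → p ≠ q → ∀ g ∈ KK (pr M p q), g * (v * z) = v * z * g := by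
  classical
  obtain ⟨g, hg⟩ : ∃ g : Pt k m → ZMod 2, ∀ p, g p = if p.2 = 0 then 0 else aa' M z p (p.1, 0) := ⟨_, fun _ => rfl⟩
  obtain ⟨c, hc⟩ : ∃ c : Fin k → ZMod 2, ∀ l, c l = ∑ x, g (l, x) := ⟨_, fun _ => rfl⟩
  obtain ⟨v, hv, hvE⟩ := Half.SymA.exists_E M (fun p => g p + c p.1) (by
    intro i
    show ∑ x, (g (i, x) + c i) = 0
    rw [Finset.sum_add_distrib, Finset.sum_const, Finset.card_univ, Fintype.card_fin, nsmul_eq_mul,
      Nat.cast_add, Nat.cast_one]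
    have h6 : ((2 ^ m : ℕ) : ZMod 2) = 0 := by
      rw [ZMod.natCast_eq_zero_iff]
      exact dvd_pow_self 2 (by have := h.hm; omega)
    have h7 : ∀ a : ZMod 2, a + a = 0 := by decide
    rw [h6, zero_add, one_mul, ← hc i]
    exact h7 _)
  have key : ∀ p q : Pt k m, p.1 = q.1 → p ≠ q → E M v p + E M v q = aa' M z p q := by
    intro p q hpq hne
    rw [hvE, hvE]
    show g p + c p.1 + (g q + c q.1) = _
    have h7 : ∀ a b d : ZMod 2, a + b + (d + b) = a + d := by decide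
    rw [hpq, h7, hg, hg]
    by_cases hp : p.2 = 0
    · have hp' : p = (q.1, 0) := Prod.ext hpq hp
      have hq : q.2 ≠ 0 := fun hq => hne (Prod.ext hpq (hp.trans hq.symm))
      rw [if_pos hp, if_neg hq, zero_add, ← hp', aa'_symm z hpq]
    · by_cases hq : q.2 = 0
      · have hq' : q = (p.1, 0) := Prod.ext hpq.symm hq
        rw [if_neg hp, if_pos hq, add_zero, ← hq']
      · rw [if_neg hp, if_neg hq, hpq, h.aa'_add hzz hz (p := p) (q := (q.1, 0)) (r := q) hpq rfl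
          (fun h0 => hp (congrArg Prod.snd h0)) (fun h0 => hq (congrArg Prod.snd h0).symm) hne,
          aa'_symm z (p := (q.1, 0)) (q := q) rfl]
  refine ⟨v, hv, fun p q hpq hne x hx => ?_⟩
  have hxq := h.KK_le hpq hne hx
  have hxP := h.QP p q hpq hne hxq
  rcases h.Qpp p q hpq hne x hxq with h1 | h1
  · have hxQ := h.mem_Q_of hpq hne hxq h1
    calc x * (v * z) = (x * v) * z := by group
      _ = v * (x * z) := by rw [h.QcV hxQ hv]; group
      _ = v * z * x := by rw [hz x hxQ]; group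
  · apply comm_of_conj
    have h2 := h.aa'_spec hzz hz hpq hne hx h1
    have h3 : x * v * x⁻¹ = sc (aa' M z p q) (pr M p q) * v := by
      rw [← key p q hpq hne]
      by_cases hE : E M v p = E M v q
      · have h7 : ∀ a : ZMod 2, a + a = 0 := by decide
        rw [hE, h7, sc_zero, one_mul]
        exact (h.act hxP hpq hne h1 hv).1 hE
      · have h7 : ∀ a b : ZMod 2, a ≠ b → a + b = 1 := by decide
        rw [h7 _ _ hE, sc_one]
        exact (h.act hxP hpq hne h1 hv).2 hE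
    have hs : sc (aa' M z p q) (pr M p q) ∈ V := sc_mem (pr_mem M p q)
    have h4 := h.Vsq hs
    have h5 := h.Vcomm hs hv
    calc x * (v * z) * x⁻¹ = (x * v * x⁻¹) * (x * z * x⁻¹) := by group
      _ = sc (aa' M z p q) (pr M p q) * v * (sc (aa' M z p q) (pr M p q) * z) := by rw [h3, h2]
      _ = v * (sc (aa' M z p q) (pr M p q) * sc (aa' M z p q) (pr M p q)) * z := by rw [h5]; group
      _ = v * z := by rw [h4, mul_one]

/-- an element of `V` centralised by all `K_p` is trivial -/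
theorem tot {v : G} (hv : v ∈ V) (hK : ∀ p q : Pt k m, p.1 = q.1 → p ≠ q → ∀ g ∈ KK (pr M p q), g * v = v * g) :
    v = 1 := by
  refine eq_one_of_const M h.hm1 hv fun p q hpq hne => ?_
  obtain ⟨w, hw, hwp⟩ := h.par p q hpq hne
  exact (h.act_iff (h.QP p q hpq hne (h.KK_le hpq hne hw)) hpq hne hwp hv).1 (hK p q hpq hne w hw)

end SD

end Cfsg.Agent.Omega.IId.SymWrD

end
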