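import Cfsg.Agent.Mrg.Omega.IId.SymWrD.SylN.Base

section


/-!
# II.d, `SwBig`: `T_n = C_S(n)` is Sylow in `C_G(n)` (bb OMEGA #19775, helper666), III: LEMMA 1

* `SN.perp` : `n^⊥ ≤ Ω₁Z(Q_n)`; `SN.zc_le_Q`, `SN.zc_conj`;
* `SN.one` : **LEMMA 1** : `y ∈ Ω₁Z(Q_n)`, `[y, Q] = ⟨a⟩` of order 2 ⇒ `a = n`.
-/

set_option autoImplicit false
set_option linter.unusedSectionVars false

namespace Cfsg.Agent.Omega.IId.SymWrD

open Subgroup Pointwise Cfsg Cfsg.Agent.ZN Cfsg.Agent.Omega.MinPar Cfsg.Agent.Omega.FFThm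
open Cfsg.Agent.Omega.Half.SymA (Pt E Mv pm)
open Cfsg.Agent.MinSimple.VModule (mem_zc zc_le zc_comm zc_sq zc_le_zl le_normalizer_o2 o2_isPGroup o2_le
  normalizer_le_normalizer_zc le_normalizer_zl)
open Triangle (KK KK_conj KK_le_o2 mem_cent mem_KK mem_zpowers_iff_of_sq cent_conj o2_cent_conj)
open Big (cz qz conj_mem norm_of conj_of_comm comm_of_conj le_o2_of)
open Big.Syl (YY mem_YY YY_le exists_mem_zc)

universe u

variable {G : Type u} [Group G] {P V : Subgroup G} {k m : ℕ}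

/-- an element of `C_G(p)` normalises `Ω₁Z(Q_p)` -/
theorem zc_conj' {p c x : G} (hc : c * p = p * c) (hx : x ∈ zc (qz p)) : c * x * c⁻¹ ∈ zc (qz p) :=
  conj_mem ((MinSimple.VModule.le_normalizer_o2 (cz p)).trans (MinSimple.VModule.normalizer_le_normalizer_zc _))
    (mem_cent.2 hc) hx

namespace SD

variable [Finite G] {S : Sylow 2 G} {M : SymK (S : Subgroup G) P V ⊥ k m} (h : SD S P V M)
include h

/-- `n^⊥ ≤ Ω₁Z(Q_n)` -/
theorem perp {p q : Pt k m} (hpq : p.1 = q.1) (hne : p ≠ q) {v : G} (hv : v ∈ V) (hE : E M v p = E M v q) :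
    v ∈ zc (qz (pr M p q)) := by
  refine mem_zc.2 ⟨h.VQ p q hpq hne hv, fun x hx => ?_, by rw [pow_two]; exact h.Vsq hv⟩
  have hxP := h.QP p q hpq hne hx
  rcases h.Qpp p q hpq hne x hx with h1 | h1
  · exact h.QcV (h.mem_Q_of hpq hne hx h1) hv
  · exact (h.act_iff hxP hpq hne h1 hv).2 hE

/-- the elements of `Ω₁Z(Q_n)` commute with `V` -/
theorem zcV {p q : Pt k m} (hpq : p.1 = q.1) (hne : p ≠ q) {y v : G} (hy : y ∈ zc (qz (pr M p q))) (hv : v ∈ V) :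
    y * v = v * y := ((mem_zc.1 hy).2.1 v (h.VQ p q hpq hne hv)).symm

theorem zc_le_Q {p q : Pt k m} (hpq : p.1 = q.1) (hne : p ≠ q) : zc (qz (pr M p q)) ≤ o2 P := by
  refine h.NQ ((o2_isPGroup _).to_le (zc_le _)) (fun y hy => mem_centralizer_iff.2 fun v hv =>
    (h.zcV hpq hne hy hv).symm) ?_
  apply norm_of
  intro c hc y hy
  exact zc_conj' (mem_centralizer_iff.1 hc _ (pr_mem M p q)).symm hy

/-- an element of `V ∩ Ω₁Z(Q_n)` is orthogonal to `n` -/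
theorem E_of_zc {p q : Pt k m} (hpq : p.1 = q.1) (hne : p ≠ q) {v : G} (hv : v ∈ V) (hz : v ∈ zc (qz (pr M p q))) :
    E M v p = E M v q := by
  obtain ⟨w, hw, hwp⟩ := h.par p q hpq hne
  have hwq := h.KK_le hpq hne hw
  exact (h.act_iff (h.QP p q hpq hne hwq) hpq hne hwp hv).1 ((mem_zc.1 hz).2.1 w hwq)

/-- `Ω₁Z(Q_n) ∩ C(Ω₁Z(Q_r)) ≤ Q_r` if `n ∈ Ω₁Z(Q_r)` -/
theorem mem_qz_of {p q a b : Pt k m} (hpq : p.1 = q.1) (hne : p ≠ q) (hab : a.1 = b.1) (hnab : a ≠ b)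
    (hE : E M (pr M p q) a = E M (pr M p q) b) {y : G} (hy : y ∈ zc (qz (pr M p q)))
    (hyc : ∀ c ∈ zc (qz (pr M a b)), y * c = c * y) : y ∈ qz (pr M a b) := by
  obtain ⟨N, hN⟩ : ∃ N : Subgroup G, N = cz (pr M a b) ⊓ centralizer (zc (qz (pr M a b)) : Set G) := ⟨_, rfl⟩
  obtain ⟨A, hA⟩ : ∃ A : Subgroup G, A = zc (qz (pr M p q)) ⊓ centralizer (zc (qz (pr M a b)) : Set G) := ⟨_, rfl⟩
  have hn : pr M p q ∈ zc (qz (pr M a b)) := h.perp hab hnab (pr_mem M p q) hE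
  have hAN : A ≤ N := by
    rw [hA, hN]
    exact fun x hx => ⟨mem_cent.2 (h.zcV hpq hne hx.1 (pr_mem M a b)), hx.2⟩
  have hNN : N ≤ normalizer (A : Set G) := by
    rw [hN, hA]
    apply norm_of
    rintro c ⟨hc1, hc2⟩ x ⟨hx1, hx2⟩
    refine ⟨zc_conj' (mem_centralizer_iff.1 hc2 _ hn).symm hx1, ?_⟩
    exact (centralizer (zc (qz (pr M a b)) : Set G)).mul_mem (mul_mem hc2 hx2) (inv_mem hc2)
  have hNle : N ≤ cz (pr M a b) := by rw [hN]; exact inf_le_left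
  have hNn : cz (pr M a b) ≤ normalizer (N : Set G) := by
    rw [hN]
    apply norm_of
    rintro c hc x ⟨hx1, hx2⟩
    refine ⟨(cz _).mul_mem ((cz _).mul_mem hc hx1) ((cz _).inv_mem hc), mem_centralizer_iff.2 fun u hu => ?_⟩
    have hu' : c⁻¹ * u * c⁻¹⁻¹ ∈ zc (qz (pr M a b)) := zc_conj' (mem_cent.1 (inv_mem hc)) hu
    rw [inv_inv] at hu'
    have h2 := mem_centralizer_iff.1 hx2 _ hu'
    calc u * (c * x * c⁻¹) = c * ((c⁻¹ * u * c) * x) * c⁻¹ := by group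
      _ = c * x * c⁻¹ * u := by rw [h2]; group
  have hA2 : IsPGroup 2 A := by
    rw [hA]
    exact (o2_isPGroup _).to_le (inf_le_left.trans (zc_le _))
  have key : A ≤ qz (pr M a b) := le_o2_of hA2 hAN hNN hNle hNn
  apply key
  rw [hA]
  exact ⟨hy, mem_centralizer_iff.2 fun c hc => (hyc c hc).symm⟩

/-- the elements of `Ω₁Z(O₂(P))` centralised by all `K_p` -/
def Ctr (M : SymK (S : Subgroup G) P V ⊥ k m) (d : G) : Prop :=
  d * d = 1 ∧ (∀ x ∈ o2 P, x * d = d * x) ∧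
    ∀ p q : Pt k m, p.1 = q.1 → p ≠ q → ∀ g ∈ KK (pr M p q), g * d = d * g

/-- **(ZV_D)**: an involution centralising `O₂(P)` is `v * d`, `v ∈ V`, `d` centralised by all `K_p`. -/
theorem zvd {z : G} (hzz : z * z = 1) (hz : ∀ x ∈ o2 P, x * z = z * x) : ∃ v ∈ V, ∃ d, Ctr M d ∧ z = v * d := by
  obtain ⟨v, hv, h1⟩ := h.exists_mod hzz hz
  have hzQ : z ∈ o2 P := h.cQ (mem_centralizer_iff.2 hz)
  have hvz : v * z = z * v := hz v (h.V_le_Q hv)
  refine ⟨v, hv, v * z, ⟨?_, fun x hx => ?_, h1⟩, ?_⟩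
  · calc v * z * (v * z) = (v * z) * (z * v) := by rw [hvz]
      _ = v * (z * z) * v := by group
      _ = 1 := by rw [hzz, mul_one, h.Vsq hv]
  · calc x * (v * z) = (x * v) * z := by group
      _ = v * (x * z) := by rw [h.QcV hx hv]; group
      _ = v * z * x := by rw [hz x hx]; group
  · rw [← mul_assoc, h.Vsq hv, one_mul]

/-- `d ∈ O₂(C_G(n))` -/
theorem Ctr_qz {d : G} (hd : Ctr M d) {p q : Pt k m} (hpq : p.1 = q.1) (hne : p ≠ q) : d ∈ zc (qz (pr M p q)) := by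
  obtain ⟨w, hwK, hwp⟩ := h.par p q hpq hne
  have hw := h.KK_le hpq hne hwK
  refine mem_zc.2 ⟨h.zz_mem_qz hpq hne hd.1 hd.2.1, fun x hx => ?_, by rw [pow_two]; exact hd.1⟩
  rcases h.split hpq hne hw hwp hx with h1 | h1
  · exact hd.2.1 x h1
  · calc x * d = w * ((w⁻¹ * x) * d) := by group
      _ = (w * d) * (w⁻¹ * x) := by rw [hd.2.1 _ h1]; group
      _ = d * x := by rw [hd.2.2 p q hpq hne w hwK]; group

/-- **LEMMA 1_D**: `y ∈ Ω₁Z(Q_n)`, `[y, Q] = ⟨a⟩` of order 2 ⇒ `a = d` or `a = n d`, `d` centralised by `Q` and all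
`K_p`. -/
theorem one {p q : Pt k m} (hpq : p.1 = q.1) (hne : p ≠ q) {y a : G} (hy : y ∈ zc (qz (pr M p q))) (ha1 : a ≠ 1)
    (hQ : ∀ x ∈ o2 P, x * y * x⁻¹ = y ∨ x * y * x⁻¹ = a * y) (hex : ∃ x ∈ o2 P, x * y * x⁻¹ = a * y) :
    ∃ d, Ctr M d ∧ (a = d ∨ a = pr M p q * d) := by
  classical
  obtain ⟨x₀, hx₀, hx₀y⟩ := hex
  have haU : a ∈ zc (qz (pr M p q)) := by
    have h1 : a = (x₀ * y * x₀⁻¹) * y⁻¹ := by rw [hx₀y]; group
    rw [h1]
    exact mul_mem (zc_conj' (h.QcV hx₀ (pr_mem M p q)) hy) (inv_mem hy)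
  have haa : a * a = 1 := by
    have := (mem_zc.1 haU).2.2
    rwa [pow_two] at this
  have hai : a⁻¹ = a := inv_eq_of_mul_eq_one_left haa
  have haQ : ∀ r ∈ o2 P, r * a = a * r := by
    intro r hr
    apply comm_of_conj
    have e1 : r * x₀ * y * (r * x₀)⁻¹ = (r * a * r⁻¹) * (r * y * r⁻¹) := by
      calc r * x₀ * y * (r * x₀)⁻¹ = r * (x₀ * y * x₀⁻¹) * r⁻¹ := by group
        _ = (r * a * r⁻¹) * (r * y * r⁻¹) := by rw [hx₀y]; group
    have hne' : r * a * r⁻¹ ≠ 1 := fun h0 => ha1 (by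
      calc a = r⁻¹ * (r * a * r⁻¹) * r := by group
        _ = 1 := by rw [h0]; group)
    rcases hQ r hr with h1 | h1 <;> rcases hQ (r * x₀) (mul_mem hr hx₀) with h2 | h2
    · exfalso
      rw [e1, h1] at h2
      exact hne' (mul_eq_right.1 h2)
    · rw [e1, h1] at h2
      exact mul_right_cancel h2
    · rw [e1, h1, ← mul_assoc] at h2
      have h3 := mul_eq_right.1 h2
      exact (eq_inv_of_mul_eq_one_left h3).trans hai
    · exfalso
      rw [e1, h1] at h2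
      exact hne' (mul_eq_right.1 h2)
  obtain ⟨v, hv, d, hd, hvd⟩ := h.zvd haa haQ
  -- the duads disjoint from `n`
  have claim : ∀ c e : Pt k m, c.1 = e.1 → c ≠ e → c ≠ p → c ≠ q → e ≠ p → e ≠ q → E M v c = E M v e := by
    intro c e hce hnce hcp hcq hep heq
    by_contra hE
    obtain ⟨w, hw, hwp⟩ := h.par c e hce hnce
    have hwq := h.KK_le hce hnce hw
    have hwP := h.QP c e hce hnce hwq
    have hwv : w * v * w⁻¹ = pr M c e * v := (h.act hwP hce hnce hwp hv).2 hE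
    have hr1 := pr_ne_one M hce hnce
    have hwa : w * a * w⁻¹ = pr M c e * a := by
      calc w * a * w⁻¹ = (w * v * w⁻¹) * (w * d * w⁻¹) := by rw [hvd]; group
        _ = pr M c e * a := by rw [hwv, conj_of_comm (hd.2.2 c e hce hnce w hw), hvd]; group
    have hna : ¬ w * a = a * w := fun h0 => by
      rw [conj_of_comm h0] at hwa
      exact hr1 (mul_eq_right.1 hwa.symm)
    -- (1)
    have s1 : ∀ u ∈ zc (qz (pr M c e)), y * u = u * y := by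
      intro u hu
      rcases hQ u (h.zc_le_Q hce hnce hu) with h1 | h1
      · exact (comm_of_conj h1).symm
      · exfalso
        have h2 : a ∈ zc (qz (pr M c e)) := by
          have h3 : a = u * (y * u⁻¹ * y⁻¹) := by
            calc a = (a * y) * y⁻¹ := by group
              _ = u * (y * u⁻¹ * y⁻¹) := by rw [← h1]; group
          rw [h3]
          exact mul_mem hu (zc_conj' (h.zcV hpq hne hy (pr_mem M c e)) (inv_mem hu))
        exact hna ((mem_zc.1 h2).2.1 w hwq)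
    -- (2)
    have hEn : E M (pr M p q) c = E M (pr M p q) e := by
      rw [E_pr_of_ne M hpq hcp hcq, E_pr_of_ne M hpq hep heq]
    have hyq : y ∈ qz (pr M c e) := h.mem_qz_of hpq hne hce hnce hEn hy s1
    -- (3)
    obtain ⟨ρ, hρ, hρy⟩ : ∃ ρ ∈ V, w * y * w⁻¹ = ρ * y := by
      rcases h.KK_act hw hyq with h1 | h1
      · exact ⟨1, one_mem _, by rw [one_mul]; exact h1⟩
      · exact ⟨_, pr_mem M c e, h1⟩
    have hx' : w * x₀ * w⁻¹ ∈ o2 P := h.nQ hwP hx₀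
    have e1 : (w * x₀ * w⁻¹) * (ρ * y) * (w * x₀ * w⁻¹)⁻¹ = pr M c e * a * (ρ * y) := by
      calc (w * x₀ * w⁻¹) * (ρ * y) * (w * x₀ * w⁻¹)⁻¹
          = w * x₀ * w⁻¹ * (w * y * w⁻¹) * (w * x₀ * w⁻¹)⁻¹ := by rw [hρy]
        _ = w * (x₀ * y * x₀⁻¹) * w⁻¹ := by group
        _ = (w * a * w⁻¹) * (w * y * w⁻¹) := by rw [hx₀y]; group
        _ = pr M c e * a * (ρ * y) := by rw [hwa, hρy]
    have e2 : (w * x₀ * w⁻¹) * (ρ * y) * (w * x₀ * w⁻¹)⁻¹ =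
        ρ * ((w * x₀ * w⁻¹) * y * (w * x₀ * w⁻¹)⁻¹) := by
      calc (w * x₀ * w⁻¹) * (ρ * y) * (w * x₀ * w⁻¹)⁻¹
          = ((w * x₀ * w⁻¹) * ρ) * y * (w * x₀ * w⁻¹)⁻¹ := by group
        _ = ρ * ((w * x₀ * w⁻¹) * y * (w * x₀ * w⁻¹)⁻¹) := by rw [h.QcV hx' hρ]; group
    rw [e1] at e2
    have hρa : ρ * a = a * ρ := haQ ρ (h.V_le_Q hρ)
    rcases hQ _ hx' with h6 | h6
    · rw [h6] at e2
      have h8 := mul_eq_right.1 e2
      -- `pr c e * a = 1`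
      have h9 : a = pr M c e := by
        have h10 := eq_inv_of_mul_eq_one_right h8
        rw [h10]
        exact inv_eq_of_mul_eq_one_left (h.pr_sq c e)
      apply hna
      rw [h9]
      exact (mem_KK.1 hw).1
    · rw [h6] at e2
      have h8 : pr M c e * a * (ρ * y) = a * (ρ * y) := by
        rw [e2, ← mul_assoc, hρa, mul_assoc]
      have h9 := mul_right_cancel h8
      exact hr1 (mul_eq_right.1 h9)
  have hEpq : E M v p = E M v q := by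
    obtain ⟨w, hw, hwp⟩ := h.par p q hpq hne
    have hwq := h.KK_le hpq hne hw
    refine (h.act_iff (h.QP p q hpq hne hwq) hpq hne hwp hv).1 ?_
    have h1 : w * a = a * w := (mem_zc.1 haU).2.1 w hwq
    have h2 : v = a * d⁻¹ := by rw [hvd]; group
    have h3 : w * d⁻¹ = d⁻¹ * w := ((show Commute w d from hd.2.2 p q hpq hne w hw).inv_right).eq
    calc w * v = (w * a) * d⁻¹ := by rw [h2]; group
      _ = a * (w * d⁻¹) := by rw [h1]; group
      _ = v * w := by rw [h3, h2]; group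
  obtain ⟨r₀, hr₀, hr₀s⟩ := exists_pt4 h.hm p.1 ({p, q} : Finset (Pt k m)) (Finset.card_le_two.trans (by norm_num))
  rw [Finset.mem_insert, Finset.mem_singleton, not_or] at hr₀s
  obtain ⟨b, hb⟩ : ∃ b, b = v * sc (E M v p + E M v r₀) (pr M p q) := ⟨_, rfl⟩
  have hscV : sc (E M v p + E M v r₀) (pr M p q) ∈ V := sc_mem (pr_mem M p q)
  have hbV : b ∈ V := by rw [hb]; exact mul_mem hv hscV
  have hbE : ∀ r, E M b r = E M v r + (E M v p + E M v r₀) * E M (pr M p q) r := by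
    intro r
    rw [hb, Half.SymA.E_mul M hv hscV, E_sc]
  have hz2 : ∀ x y : ZMod 2, x + (x + y) * 1 = y := by decide
  have hb0 : ∀ r : Pt k m, r.1 = p.1 → E M b r = E M v r₀ := by
    intro r hr
    rcases eq_or_ne r p with rfl | hrp
    · rw [hbE, E_pr_left M hpq hne]
      exact hz2 _ _
    · rcases eq_or_ne r q with rfl | hrq
      · rw [hbE, E_pr_right M hpq hne, hEpq]
        exact hz2 _ _
      · rw [hbE, E_pr_of_ne M hpq hrp hrq, mul_zero, add_zero]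
        rcases eq_or_ne r r₀ with rfl | h0
        · rfl
        · exact claim r r₀ (hr.trans hr₀.symm) h0 hrp hrq hr₀s.1 hr₀s.2
  have hb1 : b = 1 := by
    refine eq_one_of_const M h.hm1 hbV fun c e hce hnce => ?_
    by_cases hc : c.1 = p.1
    · rw [hb0 c hc, hb0 e (hce.symm.trans hc)]
    · have hcp : c ≠ p := fun h0 => hc (by rw [h0])
      have hcq : c ≠ q := fun h0 => hc (by rw [h0, hpq])
      have hep : e ≠ p := fun h0 => hc (by rw [hce, h0])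
      have heq : e ≠ q := fun h0 => hc (by rw [hce, h0, hpq])
      rw [hbE, hbE, E_pr_of_ne M hpq hcp hcq, E_pr_of_ne M hpq hep heq, mul_zero, add_zero, add_zero]
      exact claim c e hce hnce hcp hcq hep heq
  rw [hb] at hb1
  refine ⟨d, hd, ?_⟩
  rcases Half.SymA.zmod2 (E M v p + E M v r₀) with h1 | h1
  · left
    rw [h1, sc_zero, mul_one] at hb1
    rw [hvd, hb1, one_mul]
  · right
    rw [h1, sc_one] at hb1
    have h2 : v = pr M p q := by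
      rw [eq_inv_of_mul_eq_one_left hb1]
      exact inv_eq_of_mul_eq_one_left (h.pr_sq p q)
    rw [hvd, h2]

end SD

end Cfsg.Agent.Omega.IId.SymWrD

end

section


/-!
# II.d, `SwBig`: `T_n = C_S(n)` is Sylow in `C_G(n)` (bb OMEGA #19775, helper666), IV: LEMMA 2

`n = pr M x₀ (μ x₀)` an `S`-duad, `T = C_S(n)`, `t ∈ C_G(n)` normalising `T`:

* `exists_nu` : a 2-group in `T` moving a letter `c ∉ n`: a vector `ν` outside `n` with an orbit of length 2;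
* `tv` : the centres of the elements of `S` acting as transvections;
* `exists_fus` : **LEMMA 2_D**.
-/

set_option autoImplicit false
set_option linter.unusedSectionVars false

namespace Cfsg.Agent.Omega.IId.SymWrD

open Subgroup Pointwise Cfsg Cfsg.Agent.ZN Cfsg.Agent.Omega.MinPar Cfsg.Agent.Omega.FFThm
open Cfsg.Agent.Omega.Half.SymA (Pt E Mv pm)
open Cfsg.Agent.MinSimple.VModule (mem_zc zc_le zc_comm zc_sq zc_le_zl le_normalizer_o2 o2_isPGroup o2_le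
  normalizer_le_normalizer_zc le_normalizer_zl)
open Triangle (KK KK_conj KK_le_o2 mem_cent mem_KK mem_zpowers_iff_of_sq cent_conj o2_cent_conj)
open Big (cz qz conj_mem norm_of conj_of_comm comm_of_conj le_o2_of)
open Big.Syl (YY mem_YY YY_le exists_mem_zc)

universe u

variable {G : Type u} [Group G] {P V : Subgroup G} {k m : ℕ}

section tools

variable {S : Subgroup G} (M : SymK S P V ⊥ k m)

open scoped Classical in
theorem E_zz {c q : Pt k m} (hq : q.2 ≠ 0) : E M (pr M (c.1, 0) c) q = if q = c then 1 else 0 := by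
  rw [E_pr M (p := (c.1, 0)) (q := c) rfl, if_neg (fun h0 : q = (c.1, 0) => hq (by rw [h0])), zero_add]

/-- the elements of `V` vanishing at two points -/
def van (a b : Pt k m) : Subgroup G where
  carrier := {v | v ∈ V ∧ E M v a = 0 ∧ E M v b = 0}
  mul_mem' := by
    rintro v w ⟨hv, h1, h2⟩ ⟨hw, h3, h4⟩
    refine ⟨mul_mem hv hw, ?_, ?_⟩
    · rw [Half.SymA.E_mul M hv hw, h1, h3, add_zero]
    · rw [Half.SymA.E_mul M hv hw, h2, h4, add_zero]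
  one_mem' := ⟨one_mem _, Half.SymA.E_one M _, Half.SymA.E_one M _⟩
  inv_mem' := by
    rintro v ⟨hv, h1, h2⟩
    have hz : ∀ r, E M v⁻¹ r = E M v r := by
      intro r
      have h3 := Half.SymA.E_mul M hv (inv_mem hv) r
      rw [mul_inv_cancel, Half.SymA.E_one M] at h3
      have : ∀ x y : ZMod 2, 0 = x + y → y = x := by decide
      exact this _ _ h3
    exact ⟨inv_mem hv, by rw [hz, h1], by rw [hz, h2]⟩

theorem mem_van {a b : Pt k m} {v : G} : v ∈ van M a b ↔ v ∈ V ∧ E M v a = 0 ∧ E M v b = 0 := Iff.rfl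

end tools

namespace Sit

variable {S : Sylow 2 G} {M : SymK (S : Subgroup G) P V ⊥ k m} (h : Sit S P V M)
include h

theorem pp_zero {s : G} (hs : s ∈ (S : Subgroup G)) (c : Pt k m) : pp M s (c.1, 0) = ((pp M s c).1, 0) :=
  Prod.ext (h.fst (h.SP hs) rfl) ((h.snd hs).2 rfl)

theorem conj_zz {s : G} (hs : s ∈ (S : Subgroup G)) (c : Pt k m) :
    s * pr M (c.1, 0) c * s⁻¹ = pr M ((pp M s c).1, 0) (pp M s c) := by
  rw [h.conj_pr (h.SP hs) (p := (c.1, 0)) (q := c) rfl, h.pp_zero hs]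

variable {μ ν : Equiv.Perm (Pt k m)} (F : Fours M μ ν) {x₀ : Pt k m} (hx : x₀.2 ≠ 0)
include F hx

/-- the elements of `S` commuting with the `S`-duad `{x₀, μ x₀}` -/
theorem T_pt {s : G} (hs : s ∈ (S : Subgroup G)) (hsn : s * pr M x₀ (μ x₀) = pr M x₀ (μ x₀) * s) :
    (pp M s x₀ = x₀ ∧ pp M s (μ x₀) = μ x₀) ∨ (pp M s x₀ = μ x₀ ∧ pp M s (μ x₀) = x₀) := by
  have h1 := (h.comm_iff (h.SP hs) (pr_mem M x₀ (μ x₀))).1 hsn x₀
  rw [E_pr_left M (F.mfst x₀).symm (F.mne x₀ hx).symm] at h1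
  have h2 : pp M s x₀ = x₀ ∨ pp M s x₀ = μ x₀ := by
    by_contra hc
    rw [not_or] at hc
    rw [E_pr_of_ne M (F.mfst x₀).symm hc.1 hc.2] at h1
    exact zero_ne_one h1
  rcases h2 with h2 | h2
  · left
    exact ⟨h2, by rw [F.meqv s hs, h2]⟩
  · right
    exact ⟨h2, by rw [F.meqv s hs, h2, F.msq]⟩

theorem T_out {s : G} (hs : s ∈ (S : Subgroup G)) (hsn : s * pr M x₀ (μ x₀) = pr M x₀ (μ x₀) * s) {c : Pt k m}
    (h1 : c ≠ x₀) (h2 : c ≠ μ x₀) : pp M s c ≠ x₀ ∧ pp M s c ≠ μ x₀ := by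
  rcases h.T_pt F hx hs hsn with ⟨h3, h4⟩ | ⟨h3, h4⟩
  · exact ⟨fun h0 => h1 ((pp M s).injective (h0.trans h3.symm)),
      fun h0 => h2 ((pp M s).injective (h0.trans h4.symm))⟩
  · exact ⟨fun h0 => h2 ((pp M s).injective (h0.trans h4.symm)),
      fun h0 => h1 ((pp M s).injective (h0.trans h3.symm))⟩

/-- the block of `x₀` is preserved -/
theorem T_blk {s : G} (hs : s ∈ (S : Subgroup G)) (hsn : s * pr M x₀ (μ x₀) = pr M x₀ (μ x₀) * s) :
    pp M s (x₀.1, 0) = (x₀.1, 0) := by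
  rw [h.pp_zero hs]
  rcases h.T_pt F hx hs hsn with ⟨h3, -⟩ | ⟨h3, -⟩
  · rw [h3]
  · rw [h3, F.mfst]

/-- a 2-group in `C_S(n)` moving a letter outside `n` : half of an orbit -/
theorem exists_nu [Finite G] {R : Subgroup G} (hR2 : IsPGroup 2 R)
    (hR : ∀ r ∈ R, r ∈ (S : Subgroup G) ∧ r * pr M x₀ (μ x₀) = pr M x₀ (μ x₀) * r) {c : Pt k m} (hc : c.2 ≠ 0)
    (hc1 : c ≠ x₀) (hc2 : c ≠ μ x₀) (hmv : ∃ r ∈ R, pp M r c ≠ c) :
    ∃ ξ ∈ van M x₀ (μ x₀), ∃ b ∈ van M x₀ (μ x₀), b ≠ 1 ∧ (∀ r ∈ R, r * ξ * r⁻¹ = ξ ∨ r * ξ * r⁻¹ = b * ξ) ∧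
      ∃ r ∈ R, r * ξ * r⁻¹ = b * ξ := by
  classical
  have hmx : (μ x₀).2 ≠ 0 := fun h0 => hx (F.mnz.1 h0)
  have hzero : ∀ r ∈ R, (pp M r c).2 ≠ 0 := fun r hr h0 => hc ((h.snd (hR r hr).1).1 h0)
  refine Big.Syl.block (A := van M x₀ (μ x₀)) (N := van M c c) (fun a ha b hb => h.Vcomm ha.1 hb.1) hR2 ?_
    (x := pr M (c.1, 0) c) ?_ ?_ ?_ ?_
  · rintro r hr v ⟨hv, h1, h2⟩
    have hrP := h.SP (hR r hr).1
    have hri := h.T_pt F hx (inv_mem (hR r hr).1)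
      (((show Commute r (pr M x₀ (μ x₀)) from (hR r hr).2).inv_left).eq)
    rw [h.inv hrP] at hri
    refine ⟨h.amb.conj_mem hrP hv, ?_, ?_⟩
    · rw [E_conj' hrP hv]
      rcases hri with ⟨h3, -⟩ | ⟨h3, -⟩ <;> rw [h3]
      · exact h1
      · exact h2
    · rw [E_conj' hrP hv]
      rcases hri with ⟨-, h3⟩ | ⟨-, h3⟩ <;> rw [h3]
      · exact h2
      · exact h1
  · refine ⟨pr_mem M _ _, ?_, ?_⟩
    · rw [E_zz M hx, if_neg hc1.symm]
    · rw [E_zz M hmx, if_neg hc2.symm]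
  · obtain ⟨r, hr, hrc⟩ := hmv
    refine ⟨r, hr, fun h0 => ?_⟩
    rw [h.conj_zz (hR r hr).1] at h0
    have h1 := congrArg (fun v => E M v c) h0
    simp only [E_zz M hc] at h1
    rw [if_neg hrc.symm] at h1
    exact zero_ne_one h1
  · rintro ⟨-, h1, -⟩
    rw [E_zz M hc, if_pos rfl] at h1
    exact one_ne_zero h1
  · intro r hr hne
    rw [h.conj_zz (hR r hr).1] at hne ⊢
    have h1 : c ≠ pp M r c := fun h0 => hne (by rw [← h0])
    have h2 : E M (pr M ((pp M r c).1, 0) (pp M r c)) c = 0 := by rw [E_zz M hc, if_neg h1]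
    exact ⟨pr_mem M _ _, h2, h2⟩

omit hx in
/-- **The centres of the elements of `S` acting as transvections.** -/
theorem tv {B : Finset (Pt k m)} (hB2 : B.card ≤ 2) (hB0 : ∀ b ∈ B, b.2 ≠ 0) (hBμ : ∀ b, μ b ∈ B → b ∈ B) {s r : G}
    (hs : s ∈ (S : Subgroup G)) (h1 : ∀ v ∈ V, (∀ b ∈ B, E M v b = 0) → s * v * s⁻¹ = v ∨ s * v * s⁻¹ = r * v)
    (h2 : ∃ c : Pt k m, c.2 ≠ 0 ∧ c ∉ B ∧ pp M s c ≠ c) : ∃ c : Pt k m, c.2 ≠ 0 ∧ c ∉ B ∧ r = pr M c (μ c) := by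
  classical
  -- the moved points
  have hr : ∀ c : Pt k m, c.2 ≠ 0 → c ∉ B → pp M s c ≠ c →
      r = pr M ((pp M s c).1, 0) (pp M s c) * pr M (c.1, 0) c := by
    intro c hc hcB hmv
    have hv : ∀ b ∈ B, E M (pr M (c.1, 0) c) b = 0 := by
      intro b hb
      rw [E_zz M (hB0 b hb), if_neg (fun h0 : b = c => hcB (h0 ▸ hb))]
    have h3 : s * pr M (c.1, 0) c * s⁻¹ = r * pr M (c.1, 0) c := by
      refine (h1 _ (pr_mem M _ _) hv).resolve_left fun h0 => ?_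
      rw [h.conj_zz hs] at h0
      have h4 := congrArg (fun v => E M v c) h0
      simp only [E_zz M hc] at h4
      rw [if_neg hmv.symm] at h4
      exact zero_ne_one h4
    rw [h.conj_zz hs] at h3
    rw [h3, mul_assoc, h.Vsq (pr_mem M _ _), mul_one]
  have hEr : ∀ c : Pt k m, c.2 ≠ 0 → c ∉ B → pp M s c ≠ c → ∀ q : Pt k m, q.2 ≠ 0 →
      E M r q = (if q = pp M s c then 1 else 0) + (if q = c then 1 else 0) := by
    intro c hc hcB hmv q hq
    rw [hr c hc hcB hmv, Half.SymA.E_mul M (pr_mem M _ _) (pr_mem M _ _), E_zz M hq, E_zz M hq]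
  obtain ⟨c, hc, hcB, hmv⟩ := h2
  have hEc : E M r c = 1 := by
    rw [hEr c hc hcB hmv c hc, if_neg hmv.symm, if_pos rfl, zero_add]
  -- step 1
  have hblk : (pp M s c).1 = c.1 := by
    by_contra hne
    obtain ⟨c₂, hc₂, hc₂s⟩ := exists_pt4 h.hm c.1 (insert (c.1, 0) (insert c B))
      ((Finset.card_insert_le _ _).trans (by
        have := Finset.card_insert_le c B
        omega))
    rw [Finset.mem_insert, Finset.mem_insert, not_or, not_or] at hc₂s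
    obtain ⟨h3, h4, h5⟩ := hc₂s
    have h6 : c₂.2 ≠ 0 := fun h0 => h3 (Prod.ext hc₂ h0)
    have h7 : (pp M s c₂).1 = (pp M s c).1 := h.fst (h.SP hs) hc₂
    have h8 : pp M s c₂ ≠ c₂ := fun h0 => hne (by rw [← h7, h0, hc₂])
    have h9 := hEr c₂ h6 h5 h8 c hc
    rw [if_neg (fun h0 : c = pp M s c₂ => hne (by rw [← h7, ← h0])), if_neg (fun h0 : c = c₂ => h4 h0.symm), hEc,
      add_zero] at h9
    exact one_ne_zero h9
  -- step 2
  have hμc : (μ c).2 ≠ 0 := fun h0 => hc (F.mnz.1 h0)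
  have hμB : μ c ∉ B := fun h0 => hcB (hBμ c h0)
  have hμm : pp M s (μ c) ≠ μ c := fun h0 => hmv (μ.injective (by rw [← F.meqv s hs, h0]))
  have h3 := hEr (μ c) hμc hμB hμm c hc
  rw [hEc, if_neg (F.mne c hc).symm, add_zero, F.meqv s hs] at h3
  have h4 : c = μ (pp M s c) := by
    by_contra h0
    rw [if_neg h0] at h3
    exact one_ne_zero h3
  have h5 : pp M s c = μ c := by rw [h4, F.msq, ← h4]
  refine ⟨c, hc, hcB, ?_⟩
  rw [hr c hc hcB hmv, h5, h.Vcomm (pr_mem M _ _) (pr_mem M _ _), F.mfst, pr_comm M (p := (c.1, 0)) (q := c) rfl,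
    pr_mul M (p := c) (q := (c.1, 0)) (r := μ c) rfl (F.mfst c).symm]

end Sit

namespace SD

variable [Finite G] {S : Sylow 2 G} {M : SymK (S : Subgroup G) P V ⊥ k m} (h : SD S P V M)
  {μ ν : Equiv.Perm (Pt k m)} (F : Fours M μ ν) {x₀ : Pt k m} (hx : x₀.2 ≠ 0)
include h F hx

/-- an element of `C_S(n)` fixing all letters outside `n` centralises `n^⊥` -/
theorem comm_of_fix {s : G} (hs : s ∈ (S : Subgroup G)) (hsn : s * pr M x₀ (μ x₀) = pr M x₀ (μ x₀) * s)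
    (hfix : ∀ c : Pt k m, c.2 ≠ 0 → c ≠ x₀ → c ≠ μ x₀ → pp M s c = c) {v : G} (hv : v ∈ V)
    (hE : E M v x₀ = E M v (μ x₀)) : s * v = v * s := by
  classical
  rw [h.comm_iff (h.SP hs) hv]
  intro p
  by_cases hp1 : p = x₀
  · rw [hp1]
    rcases h.T_pt F hx hs hsn with ⟨h3, -⟩ | ⟨h3, -⟩ <;> rw [h3]
    exact hE.symm
  by_cases hp2 : p = μ x₀
  · rw [hp2]
    rcases h.T_pt F hx hs hsn with ⟨-, h3⟩ | ⟨-, h3⟩ <;> rw [h3]
    exact hE
  by_cases hp0 : p.2 = 0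
  · obtain ⟨c, hc, hcs⟩ := exists_pt4 h.hm p.1 ({(p.1, 0), x₀, μ x₀} : Finset (Pt k m))
      (Finset.card_le_three.trans (by norm_num))
    simp only [Finset.mem_insert, Finset.mem_singleton, not_or] at hcs
    have hc0 : c.2 ≠ 0 := fun h0 => hcs.1 (Prod.ext hc h0)
    have h1 := hfix c hc0 hcs.2.1 hcs.2.2
    have h2 := h.pp_zero hs c
    rw [h1, hc] at h2
    have h3 : p = (p.1, 0) := Prod.ext rfl hp0
    rw [h3, h2]
  · rw [hfix p hp0 hp1 hp2]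

variable {t : G} (ht : t ∈ centralizer ({pr M x₀ (μ x₀)} : Set G))
  (htn : t ∈ normalizer (((S : Subgroup G) ⊓ centralizer ({pr M x₀ (μ x₀)} : Set G) : Subgroup G) : Set G))

omit h F hx in
include ht htn in
theorem conj_T {s : G} (hs : s ∈ (S : Subgroup G)) (hsn : s * pr M x₀ (μ x₀) = pr M x₀ (μ x₀) * s) :
    t * s * t⁻¹ ∈ (S : Subgroup G) ∧ t * s * t⁻¹ * pr M x₀ (μ x₀) = pr M x₀ (μ x₀) * (t * s * t⁻¹) := by
  have h1 := (mem_normalizer_iff.1 htn s).1 (mem_inf.2 ⟨hs, mem_cent.2 hsn⟩)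
  exact ⟨h1.1, mem_cent.1 h1.2⟩

omit h F hx in
include ht htn in
theorem conj_T' {s : G} (hs : s ∈ (S : Subgroup G)) (hsn : s * pr M x₀ (μ x₀) = pr M x₀ (μ x₀) * s) :
    t⁻¹ * s * t ∈ (S : Subgroup G) ∧ t⁻¹ * s * t * pr M x₀ (μ x₀) = pr M x₀ (μ x₀) * (t⁻¹ * s * t) := by
  have := conj_T (inv_mem ht) (inv_mem htn) hs hsn
  rwa [inv_inv] at this

include ht htn in
/-- **LEMMA 2_D**: if `O₂(P)^t` moves a letter outside `n`, then an element `b ≠ 1` of `n^⊥` vanishing on `n` is, modulo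
`n`, `t`-conjugate to an element `d` centralised by `O₂(P)` and all `K_p`. -/
theorem exists_fus {x : G} (hxQ : x ∈ o2 P) {c : Pt k m} (hc : c.2 ≠ 0) (hc1 : c ≠ x₀) (hc2 : c ≠ μ x₀)
    (hmv : pp M (t * x * t⁻¹) c ≠ c) :
    ∃ b ∈ van M x₀ (μ x₀), b ≠ 1 ∧ (∀ q ∈ o2 P, t * q * t⁻¹ * b = b * (t * q * t⁻¹)) ∧
      ∃ d, Ctr M d ∧ d ≠ 1 ∧ (t⁻¹ * b * t = d ∨ t⁻¹ * b * t = pr M x₀ (μ x₀) * d) := by
  have hpq : x₀.1 = (μ x₀).1 := (F.mfst x₀).symm
  have hne : x₀ ≠ μ x₀ := (F.mne x₀ hx).symm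
  have htc : t * pr M x₀ (μ x₀) = pr M x₀ (μ x₀) * t := mem_cent.1 ht
  obtain ⟨Q', hQ'⟩ : ∃ Q' : Subgroup G, Q' = (o2 P).map (MulAut.conj t).toMonoidHom := ⟨_, rfl⟩
  have hQS : ∀ q' ∈ Q', q' ∈ (S : Subgroup G) ∧ q' * pr M x₀ (μ x₀) = pr M x₀ (μ x₀) * q' := by
    rw [hQ']
    rintro _ ⟨r, hr, rfl⟩
    exact conj_T ht htn (h.QS hr) (h.QcV hr (pr_mem M _ _))
  have hQ'2 : IsPGroup 2 Q' := by
    rw [hQ']
    exact (o2_isPGroup P).map _
  have hmem : ∀ r ∈ o2 P, t * r * t⁻¹ ∈ Q' := by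
    intro r hr
    rw [hQ']
    exact ⟨r, hr, rfl⟩
  obtain ⟨ξ, hξ, b, hb, hb1, h1, q₁, hq₁, h2⟩ := h.exists_nu F hx hQ'2 hQS hc hc1 hc2 ⟨_, hmem x hxQ, hmv⟩
  have hξ' : t⁻¹ * ξ * t ∈ zc (qz (pr M x₀ (μ x₀))) := by
    have h3 : ξ ∈ zc (qz (pr M x₀ (μ x₀))) := h.perp hpq hne hξ.1 (hξ.2.1.trans hξ.2.2.symm)
    have := zc_conj' (mem_cent.1 (inv_mem ht)) h3
    rwa [inv_inv] at this
  obtain ⟨d, hd, h3⟩ : ∃ d, Ctr M d ∧ (t⁻¹ * b * t = d ∨ t⁻¹ * b * t = pr M x₀ (μ x₀) * d) := by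
    refine h.one hpq hne hξ' ?_ ?_ ?_
    · intro h0
      apply hb1
      calc b = t * (t⁻¹ * b * t) * t⁻¹ := by group
        _ = 1 := by rw [h0]; group
    · intro r hr
      rcases h1 (t * r * t⁻¹) (hmem r hr) with h4 | h4
      · left
        calc r * (t⁻¹ * ξ * t) * r⁻¹ = t⁻¹ * (t * r * t⁻¹ * ξ * (t * r * t⁻¹)⁻¹) * t := by group
          _ = t⁻¹ * ξ * t := by rw [h4]
      · right
        calc r * (t⁻¹ * ξ * t) * r⁻¹ = t⁻¹ * (t * r * t⁻¹ * ξ * (t * r * t⁻¹)⁻¹) * t := by group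
          _ = t⁻¹ * b * t * (t⁻¹ * ξ * t) := by rw [h4]; group
    · rw [hQ'] at hq₁
      obtain ⟨r, hr, rfl⟩ := hq₁
      have h4 : t * r * t⁻¹ * ξ * (t * r * t⁻¹)⁻¹ = b * ξ := h2
      refine ⟨r, hr, ?_⟩
      calc r * (t⁻¹ * ξ * t) * r⁻¹ = t⁻¹ * (t * r * t⁻¹ * ξ * (t * r * t⁻¹)⁻¹) * t := by group
        _ = t⁻¹ * b * t * (t⁻¹ * ξ * t) := by rw [h4]; group
  have hdn : pr M x₀ (μ x₀) * d = d * pr M x₀ (μ x₀) := hd.2.1 _ (h.V_le_Q (pr_mem M _ _))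
  refine ⟨b, hb, hb1, fun q hq => ?_, d, hd, fun hd1 => ?_, h3⟩
  · have h4 : q * (t⁻¹ * b * t) = t⁻¹ * b * t * q := by
      rcases h3 with h3 | h3
      · rw [h3]
        exact hd.2.1 q hq
      · rw [h3]
        calc q * (pr M x₀ (μ x₀) * d) = (q * pr M x₀ (μ x₀)) * d := by group
          _ = pr M x₀ (μ x₀) * (q * d) := by rw [h.QcV hq (pr_mem M _ _)]; group
          _ = pr M x₀ (μ x₀) * d * q := by rw [hd.2.1 q hq]; group
    calc t * q * t⁻¹ * b = t * (q * (t⁻¹ * b * t)) * t⁻¹ := by group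
      _ = b * (t * q * t⁻¹) := by rw [h4]; group
  · rw [hd1] at h3
    rcases h3 with h3 | h3
    · apply hb1
      calc b = t * (t⁻¹ * b * t) * t⁻¹ := by group
        _ = 1 := by rw [h3]; group
    · rw [mul_one] at h3
      have h4 : b = pr M x₀ (μ x₀) := by
        calc b = t * (t⁻¹ * b * t) * t⁻¹ := by group
          _ = t * pr M x₀ (μ x₀) * t⁻¹ := by rw [h3]
          _ = pr M x₀ (μ x₀) := conj_of_comm htc
      have h5 := hb.2.1
      rw [h4, E_pr_left M hpq hne] at h5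
      exact one_ne_zero h5

end SD

end Cfsg.Agent.Omega.IId.SymWrD

end
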